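import Groth.Prelude.Def_EtDual
import Groth.Agent.EtMVLib.OpenSeq
import Groth.Agent.EtFound.AbRecollement
import Groth.Agent.EtFound.PullStalk
import Mathlib.CategoryTheory.Adjunction.Additive
import Mathlib.CategoryTheory.Preadditive.Injective.Preserves

/-!
# Sections with support: injectives and left exactness
-/

universe u

open CategoryTheory CategoryTheory.Limits AlgebraicGeometry Opposite

noncomputable section

namespace Groth.Agent.EtDual68

set_option backward.isDefEq.respectTransparency.types false

variable {X U : Scheme.{u}} (j : U ⟶ X)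

theorem pull_exact : PreservesFiniteLimits (EtCoh.pull j) ∧ PreservesFiniteColimits (EtCoh.pull j) := by
  refine ⟨EtFound.pull_preservesFiniteLimits j, ?_⟩
  have := (EtCoh.pullPushAdj j).isLeftAdjoint
  infer_instance

theorem push_preservesFiniteLimits : PreservesFiniteLimits (EtCoh.push j) := by
  have := (EtCoh.pullPushAdj j).isRightAdjoint
  infer_instance

theorem pull_additive : (EtCoh.pull j).Additive := (EtCoh.pullPushAdj j).left_adjoint_additive

theorem injective_push (G : EtCoh.Ab U) [Injective G] : Injective ((EtCoh.push j).obj G) := by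
  have := (pull_exact j).1
  exact (Injective.injective_of_adjoint (adj := EtCoh.pullPushAdj j) G)

theorem push_preservesInjectiveObjects : (EtCoh.push j).PreservesInjectiveObjects :=
  ⟨fun {G} hG => @injective_push _ _ j G hG⟩

variable [IsOpenImmersion j]

theorem injective_pull (F : EtCoh.Ab X) [Injective F] : Injective ((EtCoh.pull j).obj F) := by
  have := EtFound.extZero_preservesFiniteLimits j
  exact (Injective.injective_of_adjoint (adj := EtMVLib.shriekAdj j) F)

theorem pull_preservesInjectiveObjects : (EtCoh.pull j).PreservesInjectiveObjects :=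
  ⟨fun {G} hG => @injective_pull _ _ j _ G hG⟩

/-- the counit `j_! j⁻¹ ⟶ 𝟭` for the adjunction with `pull` is mono -/
theorem mono_shriek_counit (G : EtCoh.Ab X) : Mono ((EtMVLib.shriekAdj j).counit.app G) := by
  refine (EtFound.mono_iff_stalks _).2 fun Ω _ _ ξ => ?_
  by_cases hξ : ξ.base (default : Spec (CommRingCat.of Ω)) ∈ Set.range j.base
  · have h : IsIso ((EtCoh.stalk ξ).map ((EtShriek.extZeroAdj j).counit.app G)) :=
      EtFound.isIso_stalk_of_lift j _ ξ hξ fun k _ _ z => EtFound.isIso_counit_stalk j z G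
    have e : (EtMVLib.shriekAdj j).counit.app G =
        (EtShriek.extZero j).map ((EtMVLib.restrIsoPull j).inv.app G) ≫
          (EtShriek.extZeroAdj j).counit.app G := by
      simp [EtMVLib.shriekAdj, Adjunction.ofNatIsoRight]
    rw [e, Functor.map_comp]
    exact ((ConcreteCategory.isIso_iff_bijective _).1 inferInstance).1
  · have h := EtFound.isZero_stalk_extZero j ξ hξ ((EtCoh.pull j).obj G)
    exact fun a b _ => @Subsingleton.elim _ (AddCommGrpCat.subsingleton_of_isZero h) a b

/-- For injective `I` the unit `I ⟶ j_* j⁻¹ I` is a split epimorphism. -/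
theorem exists_section_unit (I : EtCoh.Ab X) [Injective I] :
    ∃ s : (EtCoh.push j).obj ((EtCoh.pull j).obj I) ⟶ I, s ≫ EtDual.unitApp j I = 𝟙 _ := by
  let P := (EtCoh.push j).obj ((EtCoh.pull j).obj I)
  let ε : (EtCoh.pull j).obj P ⟶ (EtCoh.pull j).obj I := (EtCoh.pullPushAdj j).counit.app _
  let c := (EtMVLib.shriekAdj j).counit.app P
  let b : (EtShriek.extZero j).obj ((EtCoh.pull j).obj P) ⟶ I :=
    ((EtMVLib.shriekAdj j).homEquiv _ _).symm ε
  have : Mono c := mono_shriek_counit j P
  refine ⟨Injective.factorThru b c, ?_⟩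
  set s := Injective.factorThru b c
  have h : c ≫ s = b := Injective.comp_factorThru b c
  have h' : (EtCoh.pull j).map s = ε := by
    have h1 : ((EtMVLib.shriekAdj j).homEquiv _ _) (c ≫ s) = ε := by rw [h]; exact Equiv.apply_symm_apply _ _
    rw [Adjunction.homEquiv_naturality_right] at h1
    rwa [show (EtMVLib.shriekAdj j).homEquiv _ _ c = 𝟙 _ by
      simp [c, Adjunction.homEquiv_unit], Category.id_comp] at h1
  apply ((EtCoh.pullPushAdj j).homEquiv _ _).symm.injective
  rw [Adjunction.homEquiv_counit, Adjunction.homEquiv_counit]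
  rw [Functor.map_comp, Category.assoc, h']
  simp [EtDual.unitApp, ε]

theorem epi_unit (I : EtCoh.Ab X) [Injective I] : Epi (EtDual.unitApp j I) := by
  obtain ⟨s, hs⟩ := exists_section_unit j I
  exact (IsSplitEpi.mk' ⟨s, hs⟩).epi

omit [IsOpenImmersion j] in
/-- inclusion of sections with support -/
def secι : EtDual.secSupp j ⟶ 𝟭 (EtCoh.Ab X) where
  app F := kernel.ι (EtDual.unitApp j F)

omit [IsOpenImmersion j] in
theorem secSupp_preservesFiniteLimits : PreservesFiniteLimits (EtDual.secSupp j) := by
  have := push_preservesFiniteLimits j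
  have := (pull_exact j).1
  refine ((EtDual.secSupp j).preservesFiniteLimits_tfae.out 0 3).1 ?_
  intro S hS
  have := hS.mono_f
  have : Mono ((EtCoh.pull j).map S.f) := (EtCoh.pull j).map_mono S.f
  have hP : Mono ((EtCoh.push j).map ((EtCoh.pull j).map S.f)) := (EtCoh.push j).map_mono _
  have hm : Mono ((EtDual.secSupp j).map S.f) := by
    have : Mono ((EtDual.secSupp j).map S.f ≫ kernel.ι (EtDual.unitApp j S.X₂)) := by
      rw [show (EtDual.secSupp j).map S.f ≫ kernel.ι (EtDual.unitApp j S.X₂) =
        kernel.ι (EtDual.unitApp j S.X₁) ≫ S.f from kernel.lift_ι _ _ _]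
      infer_instance
    exact mono_of_mono _ (kernel.ι (EtDual.unitApp j S.X₂))
  refine ⟨?_, hm⟩
  have : Mono (S.map (EtDual.secSupp j)).f := hm
  refine ShortComplex.exact_of_f_is_kernel _ (KernelFork.IsLimit.ofι' _ _ fun {A} k' hk => ?_)
  let k : A ⟶ kernel (EtDual.unitApp j S.X₂) := k'
  have hg : k ≫ (EtDual.secSupp j).map S.g = 0 := hk
  have hk' : (k ≫ kernel.ι (EtDual.unitApp j S.X₂)) ≫ S.g = 0 := by
    refine (Category.assoc _ _ _).trans ((congrArg (k ≫ ·) (show kernel.ι (EtDual.unitApp j S.X₂) ≫ S.g = (EtDual.secSupp j).map S.g ≫ kernel.ι (EtDual.unitApp j S.X₃) from (kernel.lift_ι _ _ _).symm)).trans ?_)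
    exact (Category.assoc _ _ _).symm.trans ((congrArg (· ≫ _) hg).trans zero_comp)
  let l := hS.exact.lift _ hk'
  have hl : l ≫ S.f = k ≫ kernel.ι (EtDual.unitApp j S.X₂) := hS.exact.lift_f _ hk'
  have hl0 : l ≫ EtDual.unitApp j S.X₁ = 0 := by
    apply (cancel_mono ((EtCoh.push j).map ((EtCoh.pull j).map S.f))).1
    refine ((Category.assoc _ _ _).trans
      (congrArg (l ≫ ·) ((EtCoh.pullPushAdj j).unit.naturality S.f).symm)).trans ?_
    refine (Category.assoc _ _ _).symm.trans ((congrArg (· ≫ _) hl).trans ?_)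
    refine (Category.assoc _ _ _).trans ?_
    refine (congrArg (k ≫ ·) (kernel.condition _)).trans ?_
    rw [comp_zero, zero_comp]
  refine ⟨kernel.lift _ l hl0, ?_⟩
  apply (cancel_mono (kernel.ι (EtDual.unitApp j S.X₂))).1
  refine (Category.assoc _ _ _).trans ((congrArg (_ ≫ ·) (kernel.lift_ι _ _ _)).trans ?_)
  exact (Category.assoc _ _ _).symm.trans ((congrArg (· ≫ _) (kernel.lift_ι _ _ _)).trans hl)

/-- Sections with support of an injective sheaf are injective. -/
theorem injective_secSupp (I : EtCoh.Ab X) [Injective I] : Injective ((EtDual.secSupp j).obj I) := by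
  obtain ⟨s, hs⟩ := exists_section_unit j I
  let r : I ⟶ (EtDual.secSupp j).obj I :=
    kernel.lift _ (𝟙 I - EtDual.unitApp j I ≫ s) (by
      rw [Preadditive.sub_comp, Category.assoc, hs, Category.comp_id, Category.id_comp, sub_self])
  refine Injective.mk fun {A B} f g _ => ⟨Injective.factorThru (f ≫ kernel.ι _) g ≫ r, ?_⟩
  rw [← cancel_mono (kernel.ι (EtDual.unitApp j I))]
  simp only [Category.assoc, r, kernel.lift_ι]
  rw [← Category.assoc, Injective.comp_factorThru, Preadditive.comp_sub, Category.comp_id,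
    Category.assoc, kernel.condition_assoc, zero_comp, comp_zero, sub_zero]

end Groth.Agent.EtDual68
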