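import Groth.Prelude.Def_DCoh2
import Groth.Agent.EtDual68.Supp
import Groth.Agent.H9Misc.SerreDerived
import Mathlib.Algebra.Homology.ShortComplex.PreservesHomology

/-!
# The derived category of a closed subscheme inside the derived category of the scheme
-/

universe w w' v v' u u'

open CategoryTheory CategoryTheory.Category CategoryTheory.Limits AlgebraicGeometry Opposite DerivedCategory

noncomputable section

namespace Groth.Agent.EtDual68

section Abstract

variable {A : Type u} [Category.{v} A] [Abelian A] [HasDerivedCategory.{w} A]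
  {B : Type u'} [Category.{v'} B] [Abelian B] [HasDerivedCategory.{w'} B]
  {L : A ⥤ B} {R : B ⥤ A} (adj : L ⊣ R) [L.Additive] [R.Additive]
  [PreservesFiniteLimits L] [PreservesFiniteColimits L]
  [PreservesFiniteLimits R] [PreservesFiniteColimits R]

/-- an adjunction of exact functors on derived categories -/
def adjDerived : L.mapDerivedCategory ⊣ R.mapDerivedCategory := by
  letI : CatCommSq (L.mapHomotopyCategory (ComplexShape.up ℤ)) DerivedCategory.Qh DerivedCategory.Qh
      L.mapDerivedCategory := ⟨L.mapDerivedCategoryFactorsh.symm⟩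
  letI : CatCommSq (R.mapHomotopyCategory (ComplexShape.up ℤ)) DerivedCategory.Qh DerivedCategory.Qh
      R.mapDerivedCategory := ⟨R.mapDerivedCategoryFactorsh.symm⟩
  exact (H9Misc.SerreDerived.adjHtpy (ComplexShape.up ℤ) adj).localization DerivedCategory.Qh
    (HomotopyCategory.quasiIso A (ComplexShape.up ℤ)) DerivedCategory.Qh
    (HomotopyCategory.quasiIso B (ComplexShape.up ℤ)) _ _

include adj in
theorem isIso_adjDerived_counit [IsIso adj.counit] : IsIso (adjDerived adj).counit := by
  let aH := H9Misc.SerreDerived.adjHtpy (ComplexShape.up ℤ) adj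
  have hH : ∀ K, IsIso (aH.counit.app K) := fun K => by
    let e : ((L.mapHomologicalComplex (ComplexShape.up ℤ)).obj
        ((R.mapHomologicalComplex (ComplexShape.up ℤ)).obj K.as)) ≅ K.as :=
      HomologicalComplex.Hom.isoOfComponents (fun i => (asIso adj.counit).app (K.as.X i))
        (fun i j _ => (adj.counit.naturality (K.as.d i j)).symm)
    have h0 : aH.counit.app K = (HomotopyCategory.quotient B (ComplexShape.up ℤ)).map e.hom := rfl
    rw [h0]
    exact ((HomotopyCategory.quotient B (ComplexShape.up ℤ)).mapIso e).isIso_hom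
  have h : ∀ X, IsIso ((adjDerived adj).counit.app X) := by
    intro X
    have := Localization.essSurj (DerivedCategory.Qh (C := B)) (HomotopyCategory.quasiIso B (ComplexShape.up ℤ))
    have hQ : IsIso ((adjDerived adj).counit.app
        (DerivedCategory.Qh.obj (DerivedCategory.Qh.objPreimage X))) := by
      dsimp only [adjDerived]
      erw [Adjunction.localization_counit_app]
      infer_instance
    exact (NatTrans.isIso_app_iff_of_iso _ (DerivedCategory.Qh.objObjPreimageIso X)).1 hQ
  exact NatIso.isIso_of_isIso_app _

include adj in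
theorem mapDerivedCategory_full_faithful [IsIso adj.counit] :
    R.mapDerivedCategory.Full ∧ R.mapDerivedCategory.Faithful := by
  have := isIso_adjDerived_counit adj
  exact ⟨(adjDerived adj).fullyFaithfulROfIsIsoCounit.full,
    (adjDerived adj).fullyFaithfulROfIsIsoCounit.faithful⟩

include adj in
/-- complexes whose homology is fixed by the unit are in the essential image -/
theorem mem_essImage_of_homology (K : DerivedCategory A)
    (h : ∀ n : ℤ, IsIso (adj.unit.app ((DerivedCategory.homologyFunctor A n).obj K))) :
    R.mapDerivedCategory.essImage K := by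
  have := Localization.essSurj (DerivedCategory.Q (C := A)) (HomologicalComplex.quasiIso A (ComplexShape.up ℤ))
  let M : CochainComplex A ℤ := DerivedCategory.Q.objPreimage K
  let e : DerivedCategory.Q.obj M ≅ K := DerivedCategory.Q.objObjPreimageIso K
  let uM : M ⟶ ((L ⋙ R).mapHomologicalComplex _).obj M :=
    { f := fun i => adj.unit.app (M.X i)
      comm' := fun i j _ => (adj.unit.naturality (M.d i j)).symm }
  have hu : QuasiIso uM := ⟨fun n => by
    rw [quasiIsoAt_iff, ShortComplex.quasiIso_iff]
    have hn : IsIso (adj.unit.app (M.sc n).homology) :=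
      (NatTrans.isIso_app_iff_of_iso adj.unit
        (((DerivedCategory.homologyFunctorFactors A n).app M).symm ≪≫
          (DerivedCategory.homologyFunctor A n).mapIso e)).2 (h n)
    have := ShortComplex.homologyMap_mapNatTrans (M.sc n) (F := 𝟭 A) (G := L ⋙ R) adj.unit
    change IsIso (ShortComplex.homologyMap ((M.sc n).mapNatTrans (F := 𝟭 A) (G := L ⋙ R) adj.unit))
    rw [this]
    infer_instance⟩
  exact ⟨DerivedCategory.Q.obj ((L.mapHomologicalComplex _).obj M),
    ⟨R.mapDerivedCategoryFactors.app _ ≪≫ (asIso (DerivedCategory.Q.map uM)).symm ≪≫ e⟩⟩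

/-- homology commutes with exact functors -/
def homologyMapDerived (n : ℤ) (Y : DerivedCategory B) :
    (DerivedCategory.homologyFunctor A n).obj (R.mapDerivedCategory.obj Y) ≅
      R.obj ((DerivedCategory.homologyFunctor B n).obj Y) :=
  haveI := Localization.essSurj (DerivedCategory.Q (C := B)) (HomologicalComplex.quasiIso B (ComplexShape.up ℤ))
  let M : CochainComplex B ℤ := DerivedCategory.Q.objPreimage Y
  let e : DerivedCategory.Q.obj M ≅ Y := DerivedCategory.Q.objObjPreimageIso Y
  (DerivedCategory.homologyFunctor A n).mapIso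
      (R.mapDerivedCategory.mapIso e.symm ≪≫ R.mapDerivedCategoryFactors.app M) ≪≫
    (DerivedCategory.homologyFunctorFactors A n).app _ ≪≫ (M.sc n).mapHomologyIso R ≪≫
    R.mapIso (((DerivedCategory.homologyFunctorFactors B n).app M).symm ≪≫
      (DerivedCategory.homologyFunctor B n).mapIso e)

end Abstract

set_option backward.isDefEq.respectTransparency.types false

variable {Z X U : Scheme.{u}} (i : Z ⟶ X) [IsClosedImmersion i] (j : U ⟶ X) [IsOpenImmersion j]
  (hZU : Set.range j.base = (Set.range i.base)ᶜ)

include hZU in
theorem isZero_pull_push (G : EtCoh.Ab Z) : IsZero ((EtCoh.pull j).obj ((EtCoh.push i).obj G)) := by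
  refine (EtFound.isZero_iff_stalks _).2 fun Ω _ _ z => ?_
  refine IsZero.of_iso ?_ ((EtFound.stalkPullIso j z).app _)
  refine EtFound.isZero_stalk_push_closed i G (z ≫ j) ?_
  rw [← Set.mem_compl_iff, ← hZU]
  exact ⟨_, (Scheme.Hom.comp_apply _ _ _).symm⟩

include hZU in
theorem isIso_unit_of_isZero_pull (F : EtCoh.Ab X) (h : IsZero ((EtCoh.pull j).obj F)) :
    IsIso ((EtCoh.pullPushAdj i).unit.app F) := by
  have : AlgebraicGeometry.Etale j := inferInstance
  obtain ⟨w, hs⟩ := EtFound.recollement_shortExact i j hZU F
  have h0 : IsZero ((EtShriek.restrAlong j).obj F) := h.of_iso ((EtMVLib.restrIsoPull j).app F)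
  have : (EtShriek.extZero j).PreservesZeroMorphisms := by
    have := (EtShriek.extZeroAdj j).isLeftAdjoint
    infer_instance
  have h1 := Functor.map_isZero (EtShriek.extZero j) h0
  exact hs.isIso_g_iff.2 h1

end Groth.Agent.EtDual68
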