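import Groth.Agent.EtDual68.Supp
import Groth.Agent.SiteBase.DerivedKernel
import Groth.Agent.SiteBase.DerivedPrecomp

/-!
# Local cohomology sheaves versus higher direct images
-/

universe u

open CategoryTheory CategoryTheory.Limits AlgebraicGeometry Opposite

noncomputable section

namespace Groth.Agent.EtDual68

set_option backward.isDefEq.respectTransparency.types false

variable {X U : Scheme.{u}} (j : U ⟶ X)

/-- the unit as a natural transformation -/
abbrev unitNT : 𝟭 (EtCoh.Ab X) ⟶ EtCoh.pull j ⋙ EtCoh.push j := (EtCoh.pullPushAdj j).unit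

variable [IsOpenImmersion j]

theorem nonempty_locCoh_one_iso :
    Nonempty (EtDual.locCoh j 1 ≅ cokernel (unitNT j)) := by
  have := secSupp_preservesFiniteLimits j
  have := (pull_exact j).1
  have := push_preservesFiniteLimits j
  exact SiteBase.nonempty_rightDerived_one_iso (Γ := EtDual.secSupp j) (secι j) (unitNT j)
    (fun F => kernel.condition _) (fun F => kernelIsKernel (EtDual.unitApp j F))
    (fun F _ => epi_unit j F)

theorem nonempty_locCoh_succ_iso (q : ℕ) :
    Nonempty (EtDual.locCoh j (q + 2) ≅ EtCoh.pull j ⋙ EtCoh.Rpush j (q + 1)) := by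
  have := secSupp_preservesFiniteLimits j
  have := (pull_exact j).1
  have := (pull_exact j).2
  have := push_preservesFiniteLimits j
  have := pull_additive j
  have := pull_preservesInjectiveObjects j
  obtain ⟨e⟩ := SiteBase.nonempty_rightDerived_succ_iso (Γ := EtDual.secSupp j) (secι j) (unitNT j)
    (fun F => kernel.condition _) (fun F => kernelIsKernel (EtDual.unitApp j F))
    (fun F _ => epi_unit j F) q
  exact ⟨e ≪≫ SiteBase.rightDerivedPrecompIso (EtCoh.pull j) (EtCoh.push j) (q + 1)⟩

theorem nonempty_cokernel_unitApp_iso (F : EtCoh.Ab X) :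
    Nonempty ((EtDual.locCoh j 1).obj F ≅ cokernel (EtDual.unitApp j F)) := by
  obtain ⟨e⟩ := nonempty_locCoh_one_iso j
  exact ⟨e.app F ≪≫ PreservesCokernel.iso ((evaluation _ _).obj F) (unitNT j)⟩

end Groth.Agent.EtDual68
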