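import Groth.Agent.EtDual68.SuppDerived
import Groth.Agent.EtDual68.EtaleRestr
import Groth.Agent.EtDerLib.EtRestr
import Groth.Agent.SiteBase.DerivedComp
import Groth.Agent.BigSiteLib.Along

/-!
# Local cohomology sheaves commute with restriction to etale schemes
-/

universe u

open CategoryTheory CategoryTheory.Limits AlgebraicGeometry Opposite

noncomputable section

namespace Groth.Agent.EtDual68

set_option backward.isDefEq.respectTransparency.types false

section

variable {X U : Scheme.{u}} (j : U ⟶ X)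

theorem isZero_pull_secSupp (F : EtCoh.Ab X) :
    IsZero ((EtCoh.pull j).obj ((EtDual.secSupp j).obj F)) := by
  have := (pull_exact j).1
  have h : Mono ((EtCoh.pull j).map (EtDual.unitApp j F)) := by
    have e := (EtCoh.pullPushAdj j).left_triangle_components F
    have : Mono ((EtCoh.pull j).map (EtDual.unitApp j F) ≫ (EtCoh.pullPushAdj j).counit.app _) := by
      change Mono ((EtCoh.pull j).map ((EtCoh.pullPushAdj j).unit.app F) ≫ _)
      exact e.symm ▸ (inferInstance : Mono (𝟙 _))
    exact mono_of_mono _ ((EtCoh.pullPushAdj j).counit.app _)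
  have hm : Mono ((EtCoh.pull j).map (kernel.ι (EtDual.unitApp j F))) := inferInstance
  have h0 : (EtCoh.pull j).map (kernel.ι (EtDual.unitApp j F)) = 0 := by
    rw [← cancel_mono ((EtCoh.pull j).map (EtDual.unitApp j F)), ← Functor.map_comp, kernel.condition,
      Functor.map_zero, zero_comp]
  exact IsZero.of_mono_eq_zero _ h0

theorem comp_unitApp_eq_zero {A G : EtCoh.Ab X} (hA : IsZero ((EtCoh.pull j).obj A)) (a : A ⟶ G) :
    a ≫ EtDual.unitApp j G = 0 :=
  ((EtCoh.pullPushAdj j).homEquiv _ _).symm.injective (hA.eq_of_src _ _)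

theorem push_hom_eq_zero {A : EtCoh.Ab X} {G : EtCoh.Ab U} (hA : IsZero ((EtCoh.pull j).obj A))
    (a : A ⟶ (EtCoh.push j).obj G) : a = 0 :=
  ((EtCoh.pullPushAdj j).homEquiv _ _).symm.injective (hA.eq_of_src _ _)

end

variable {X U X' U' : Scheme.{u}} (j : U ⟶ X) (g : X' ⟶ X) [AlgebraicGeometry.Etale g]
  (j' : U' ⟶ X') (g' : U' ⟶ U) (h : IsPullback g' j' j g)

omit [AlgebraicGeometry.Etale g] in
include h in
theorem isZero_pull_pull_secSupp (F : EtCoh.Ab X) :
    IsZero ((EtCoh.pull j').obj ((EtCoh.pull g).obj ((EtDual.secSupp j).obj F))) := by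
  refine ((EtCoh.pull g').map_isZero (isZero_pull_secSupp j F)).of_iso ?_
  exact (EtCore.pullComp j' g).symm.app _ ≪≫ (EtCore.pullCongr h.w.symm).app _ ≪≫
    (EtCore.pullComp g' j).app _

/-- restriction of sections with support to an etale scheme -/
def secSuppPullMap : EtDual.secSupp j ⋙ EtCoh.pull g ⟶ EtCoh.pull g ⋙ EtDual.secSupp j' where
  app F := kernel.lift _ ((EtCoh.pull g).map (kernel.ι (EtDual.unitApp j F)))
    (comp_unitApp_eq_zero j' (isZero_pull_pull_secSupp j g j' g' h F) _)
  naturality {F G} a := by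
    apply (cancel_mono (kernel.ι (EtDual.unitApp j' ((EtCoh.pull g).obj G)))).1
    simp [EtDual.secSupp, ← Functor.map_comp]

theorem secSuppPullMap_ι (F : EtCoh.Ab X) :
    (secSuppPullMap j g j' g' h).app F ≫ kernel.ι (EtDual.unitApp j' ((EtCoh.pull g).obj F)) =
      (EtCoh.pull g).map (kernel.ι (EtDual.unitApp j F)) := kernel.lift_ι _ _ _

theorem isIso_secSuppPullMap : IsIso (secSuppPullMap j g j' g' h) := by
  have := (pull_exact g).1
  obtain ⟨e⟩ := EtDerLib.nonempty_pull_push_iso j g j' g' h
  suffices hα : ∀ F, IsIso ((secSuppPullMap j g j' g' h).app F) from NatIso.isIso_of_isIso_app _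
  intro F
  let ι' := kernel.ι (EtDual.unitApp j' ((EtCoh.pull g).obj F))
  have hz : ι' ≫ (EtCoh.pull g).map (EtDual.unitApp j F) = 0 := by
    rw [← cancel_mono (e.hom.app ((EtCoh.pull j).obj F)), zero_comp]
    exact push_hom_eq_zero j' (isZero_pull_secSupp j' _) _
  let d := PreservesKernel.iso (EtCoh.pull g) (EtDual.unitApp j F)
  let inv : kernel (EtDual.unitApp j' ((EtCoh.pull g).obj F)) ⟶
      (EtCoh.pull g).obj (kernel (EtDual.unitApp j F)) := kernel.lift _ ι' hz ≫ d.inv
  have hinv : inv ≫ (EtCoh.pull g).map (kernel.ι (EtDual.unitApp j F)) = ι' := by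
    simp [inv, d]
  have hm : Mono ((EtCoh.pull g).map (kernel.ι (EtDual.unitApp j F))) := inferInstance
  refine ⟨inv, ?_, ?_⟩
  · refine (cancel_mono ((EtCoh.pull g).map (kernel.ι (EtDual.unitApp j F)))).1 ?_
    exact ((Category.assoc _ _ _).trans ((congrArg (_ ≫ ·) hinv).trans
      (secSuppPullMap_ι j g j' g' h F))).trans (Category.id_comp _).symm
  · refine (cancel_mono ι').1 ?_
    exact ((Category.assoc _ _ _).trans ((congrArg (inv ≫ ·) (secSuppPullMap_ι j g j' g' h F)).trans
      hinv)).trans (Category.id_comp _).symm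

/-- sections with support commute with restriction to etale schemes -/
def secSuppPullIso : EtDual.secSupp j ⋙ EtCoh.pull g ≅ EtCoh.pull g ⋙ EtDual.secSupp j' :=
  @asIso _ _ _ _ (secSuppPullMap j g j' g' h) (isIso_secSuppPullMap j g j' g' h)

include h in
/-- local cohomology sheaves commute with restriction to etale schemes -/
theorem nonempty_locCoh_pull_iso (q : ℕ) :
    Nonempty (EtDual.locCoh j q ⋙ EtCoh.pull g ≅ EtCoh.pull g ⋙ EtDual.locCoh j' q) := by
  have := (pull_exact g).1
  have := (pull_exact g).2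
  have := pullEt_preservesInjectiveObjects g
  exact ⟨(SiteBase.rightDerivedCompIso (EtDual.secSupp j) (EtCoh.pull g) q).symm ≪≫
    BigSiteLib.rightDerivedIso (secSuppPullIso j g j' g' h) q ≪≫
    SiteBase.rightDerivedPrecompIso (EtCoh.pull g) (EtDual.secSupp j') q⟩

end Groth.Agent.EtDual68
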