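import Groth.Agent.SiteBase.DerivedKernel
import Mathlib.CategoryTheory.Preadditive.Injective.Basic

/-!
# Right derived functors of a composite in the first degree where the first functor is nonzero
-/

universe v u v₂ u₂ v₃ u₃

open CategoryTheory CategoryTheory.Limits

noncomputable section

namespace Groth.Agent.EtDual68

section Regular

variable {A : Type u} [Category.{v} A] [Abelian A] {D : Type u₂} [Category.{v₂} D] [Abelian D]

/-- a morphism between objects with injective kernel and source is von Neumann regular -/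
theorem exists_regular {X Y : A} (g : X ⟶ Y) [Injective X] [Injective (kernel g)] :
    ∃ s : Y ⟶ X, g ≫ s ≫ g = g := by
  let e := Abelian.factorThruImage g
  let m := Abelian.image.ι g
  have he : Epi e := inferInstance
  let S := ShortComplex.mk (kernel.ι g) e (by
    rw [← cancel_mono m, zero_comp, Category.assoc, Abelian.image.fac, kernel.condition])
  have hS : S.ShortExact :=
    { exact := by
        refine ShortComplex.exact_of_f_is_kernel _ (KernelFork.IsLimit.ofι' _ _ fun k hk => ?_)
        refine ⟨kernel.lift g k ?_, kernel.lift_ι _ _ _⟩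
        rw [← Abelian.image.fac g, ← Category.assoc, hk, zero_comp] }
  let σ : ShortComplex.Splitting S := hS.splittingOfInjective
  have hI : Injective (Abelian.image g) :=
    Injective.mk fun {P Q} f i _ => ⟨Injective.factorThru (f ≫ σ.s) i ≫ e, by
      rw [← Category.assoc, Injective.comp_factorThru, Category.assoc, σ.s_g]
      exact Category.comp_id _⟩
  refine ⟨Injective.factorThru (𝟙 _) m ≫ σ.s, ?_⟩
  have h1 : σ.s ≫ g = m := by
    conv_lhs => rw [← Abelian.image.fac g, ← Category.assoc, σ.s_g]
    exact Category.id_comp _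
  rw [Category.assoc, h1]
  refine (congrArg (· ≫ _) (Abelian.image.fac g).symm).trans ?_
  refine (Category.assoc _ _ _).trans ((congrArg (_ ≫ ·) ?_).trans (Abelian.image.fac g))
  exact (Category.assoc _ _ _).symm.trans
    ((congrArg (· ≫ m) (Injective.comp_factorThru (𝟙 (Abelian.image g)) m)).trans (Category.id_comp m))

/-- regular morphisms have their cokernels preserved by every additive functor -/
theorem nonempty_cokernel_map_iso {X Y : A} (g : X ⟶ Y) (s : Y ⟶ X) (hs : g ≫ s ≫ g = g)
    (G : A ⥤ D) [G.Additive] :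
    Nonempty (cokernel (G.map g) ≅ G.obj (cokernel g)) := by
  let r : cokernel g ⟶ Y := cokernel.desc g (𝟙 Y - s ≫ g) (by
    rw [Preadditive.comp_sub, Category.comp_id, hs, sub_self])
  have hπr : cokernel.π g ≫ r = 𝟙 Y - s ≫ g := cokernel.π_desc _ _ _
  have hrπ : r ≫ cokernel.π g = 𝟙 _ := by
    rw [← cancel_epi (cokernel.π g), ← Category.assoc, hπr]
    simp [Preadditive.sub_comp]
  have hw : G.map g ≫ G.map (cokernel.π g) = 0 := by
    rw [← G.map_comp, cokernel.condition, G.map_zero]
  refine ⟨{ hom := cokernel.desc _ (G.map (cokernel.π g)) hw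
            inv := G.map r ≫ cokernel.π (G.map g)
            hom_inv_id := ?_
            inv_hom_id := ?_ }⟩
  · rw [← cancel_epi (cokernel.π (G.map g)), cokernel.π_desc_assoc, ← G.map_comp_assoc, hπr]
    simp [Preadditive.sub_comp, G.map_comp]
  · rw [Category.assoc, cokernel.π_desc, ← G.map_comp, hrπ, G.map_id]

theorem injective_of_cokernel_isZero {X Y : A} (g : X ⟶ Y) (s : Y ⟶ X) (hs : g ≫ s ≫ g = g)
    [Injective X] (h : IsZero (cokernel g)) : Injective Y := by
  have : Epi g := Abelian.epi_of_cokernel_π_eq_zero _ (h.eq_of_tgt _ _)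
  have hsg : s ≫ g = 𝟙 Y := by rw [← cancel_epi g, hs, Category.comp_id]
  exact Injective.mk fun {P Q} f i _ => ⟨Injective.factorThru (f ≫ s) i ≫ g, by
    rw [← Category.assoc, Injective.comp_factorThru, Category.assoc, hsg, Category.comp_id]⟩

end Regular

variable {A : Type u} [Category.{v} A] [Abelian A] [EnoughInjectives A]
  {B : Type u₂} [Category.{v₂} B] [Abelian B]
  {D : Type u₃} [Category.{v₃} D] [Abelian D]

/-- `R¹T` as a cokernel -/
theorem nonempty_rightDerived_one_iso_cokernel (T : A ⥤ B) [T.Additive] [PreservesFiniteLimits T] (F : A) :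
    Nonempty ((T.rightDerived 1).obj F ≅ cokernel (T.map (SiteBase.effSES F).g)) := by
  let S := SiteBase.derivedStepPres T 0
  exact ⟨((S.isColimit F).coconePointUniqueUpToIso (cokernelIsCokernel _)) ≪≫
    cokernel.mapIso _ _ (T.rightDerivedZeroIsoSelf.app _) (T.rightDerivedZeroIsoSelf.app _)
      (T.rightDerivedZeroIsoSelf.hom.naturality _)⟩

/-- dimension shifting -/
theorem nonempty_rightDerived_shift (T : A ⥤ B) [T.Additive] (F : A) (q : ℕ) :
    Nonempty ((T.rightDerived (q + 2)).obj F ≅ (T.rightDerived (q + 1)).obj (SiteBase.effSES F).X₃) := by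
  let S := SiteBase.derivedStepPres T (q + 1)
  have := SiteBase.injective_effSES F
  have h0 : (T.rightDerived (q + 1)).map (SiteBase.effSES F).g = 0 :=
    (T.isZero_rightDerived_obj_injective_succ q _).eq_of_src _ _
  exact ⟨((S.isColimit F).coconePointUniqueUpToIso (cokernelIsCokernel _)) ≪≫
    cokernelIsoOfEq h0 ≪≫ cokernelZeroIsoTarget⟩

variable (S : A ⥤ B) [S.Additive] [PreservesFiniteLimits S] [S.PreservesInjectiveObjects]
  (G : B ⥤ D) [G.Additive] [PreservesFiniteLimits G]

theorem exists_regular_effSES (F : A) [Injective (S.obj F)] :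
    ∃ s, S.map (SiteBase.effSES F).g ≫ s ≫ S.map (SiteBase.effSES F).g = S.map (SiteBase.effSES F).g := by
  have := SiteBase.injective_effSES F
  have := Functor.PreservesInjectiveObjects.injective_obj (F := S)
    (inferInstance : Injective (SiteBase.effSES F).X₂)
  have hS := ShortComplex.Exact.map_of_mono_of_preservesKernel (SiteBase.effSES_shortExact F).exact S
    (SiteBase.effSES_shortExact F).mono_f inferInstance
  have : Mono ((SiteBase.effSES F).map S).f := by
    have := (SiteBase.effSES_shortExact F).mono_f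
    exact S.map_mono _
  let e : S.obj F ≅ kernel (S.map (SiteBase.effSES F).g) :=
    hS.fIsKernel.conePointUniqueUpToIso (limit.isLimit _)
  have : Injective (kernel (S.map (SiteBase.effSES F).g)) := Injective.of_iso e ‹_›
  exact exists_regular _

theorem nonempty_comp_rightDerived_iso : ∀ (m : ℕ) (F : A), Injective (S.obj F) →
    (∀ p, 0 < p → p ≤ m → IsZero ((S.rightDerived p).obj F)) →
    Nonempty (((S ⋙ G).rightDerived (m + 1)).obj F ≅ G.obj ((S.rightDerived (m + 1)).obj F))
  | 0, F, hF, _ => by
    have := comp_preservesFiniteLimits S G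
    obtain ⟨e₁⟩ := nonempty_rightDerived_one_iso_cokernel (S ⋙ G) F
    obtain ⟨e₂⟩ := nonempty_rightDerived_one_iso_cokernel S F
    obtain ⟨s, hs⟩ := exists_regular_effSES S F
    obtain ⟨e₃⟩ := nonempty_cokernel_map_iso _ s hs G
    exact ⟨e₁ ≪≫ e₃ ≪≫ G.mapIso e₂.symm⟩
  | m + 1, F, hF, h => by
    obtain ⟨e₂⟩ := nonempty_rightDerived_one_iso_cokernel S F
    obtain ⟨s, hs⟩ := exists_regular_effSES S F
    have := SiteBase.injective_effSES F
    have := Functor.PreservesInjectiveObjects.injective_obj (F := S)
      (inferInstance : Injective (SiteBase.effSES F).X₂)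
    have hQ : Injective (S.obj (SiteBase.effSES F).X₃) :=
      injective_of_cokernel_isZero _ s hs ((h 1 one_pos (by omega)).of_iso e₂.symm)
    obtain ⟨e⟩ := nonempty_comp_rightDerived_iso m _ hQ (fun p hp hpm => by
      obtain ⟨q, rfl⟩ := Nat.exists_eq_add_of_le' hp
      obtain ⟨a⟩ := nonempty_rightDerived_shift S F q
      exact (h (q + 2) (by omega) (by omega)).of_iso a.symm)
    obtain ⟨a⟩ := nonempty_rightDerived_shift (S ⋙ G) F m
    obtain ⟨b⟩ := nonempty_rightDerived_shift S F m
    exact ⟨a ≪≫ e ≪≫ G.mapIso b.symm⟩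

/-- the edge isomorphism in the first nonzero degree -/
theorem nonempty_comp_rightDerived_iso_of_vanishing (m : ℕ) (F : A)
    (h : ∀ p, p < m → IsZero ((S.rightDerived p).obj F)) :
    Nonempty (((S ⋙ G).rightDerived m).obj F ≅ G.obj ((S.rightDerived m).obj F)) := by
  cases m with
  | zero =>
    have := comp_preservesFiniteLimits S G
    exact ⟨(S ⋙ G).rightDerivedZeroIsoSelf.app F ≪≫ G.mapIso (S.rightDerivedZeroIsoSelf.app F).symm⟩
  | succ m =>
    have h0 : IsZero (S.obj F) := (h 0 (Nat.succ_pos m)).of_iso (S.rightDerivedZeroIsoSelf.app F).symm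
    exact nonempty_comp_rightDerived_iso S G m F (Injective.mk fun f i _ => ⟨0, h0.eq_of_tgt _ _⟩)
      fun p _ hp => h p (Nat.lt_succ_of_le hp)

theorem isZero_comp_rightDerived_of_vanishing (m : ℕ) (F : A)
    (h : ∀ p, p ≤ m → IsZero ((S.rightDerived p).obj F)) :
    IsZero (((S ⋙ G).rightDerived m).obj F) := by
  obtain ⟨e⟩ := nonempty_comp_rightDerived_iso_of_vanishing S G m F fun p hp => h p hp.le
  exact (G.map_isZero (h m le_rfl)).of_iso e

end Groth.Agent.EtDual68
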