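import Groth.Agent.EtDual68.Supp
import Groth.Agent.EtMVLib.SES
import Mathlib.CategoryTheory.Preadditive.Yoneda.Basic
import Mathlib.Algebra.Category.Grp.ForgetCorepresentable

/-!
# Sections with support as morphisms out of the cokernel of `j_! ℤ ⟶ ℤ`
-/

universe u

open CategoryTheory CategoryTheory.Limits AlgebraicGeometry Opposite

noncomputable section

namespace Groth.Agent.EtDual68

set_option backward.isDefEq.respectTransparency.types false

variable {X U : Scheme.{u}}

/-- morphisms out of an object -/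
abbrev homFunctor (Q : EtCoh.Ab X) : EtCoh.Ab X ⥤ AddCommGrpCat.{u + 1} :=
  preadditiveCoyoneda.obj (op Q)

/-- global sections are morphisms out of `ℤ` -/
def homIsoGsec (X : Scheme.{u}) : homFunctor (EtCoh.const X ℤ) ≅ EtCore.gsec X :=
  NatIso.ofComponents
    (fun G => AddEquiv.toAddCommGrpIso
      (show (EtCoh.const X ℤ ⟶ G) ≃+ (EtCore.gsec X).obj G from
        (((EtCore.constAdj X).homAddEquiv _ G).trans AddCommGrpCat.homAddEquiv).trans
          (AddEquiv.mk' (uliftZMultiplesHom ((EtCore.gsec X).obj G))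
            (uliftZMultiplesHom_apply_add _)).symm))
    (fun {G G'} φ => by
      ext (a : EtCoh.const X ℤ ⟶ G)
      exact ConcreteCategory.congr_hom
        ((EtCore.constAdj X).homEquiv_naturality_right a φ) (ULift.up (1 : ℤ)))

variable (j : U ⟶ X) [IsOpenImmersion j]

/-- `ℤ` on the complement of `j`, extended by zero -/
def QSupp : EtCoh.Ab X := cokernel (EtMVLib.shriekZTo j)

/-- the projection `ℤ ⟶ QSupp j` -/
def QSuppπ : EtCoh.const X ℤ ⟶ QSupp j := cokernel.π _

instance epi_QSuppπ : Epi (QSuppπ j) := by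
  dsimp [QSuppπ, QSupp]
  infer_instance

theorem shriekZTo_QSuppπ : EtMVLib.shriekZTo j ≫ QSuppπ j = 0 := cokernel.condition _

theorem isZero_stalk_QSupp {Ω : Type u} [Field Ω] [IsSepClosed Ω] (ξ : Spec (CommRingCat.of Ω) ⟶ X)
    (hξ : ξ.base (default : Spec (CommRingCat.of Ω)) ∈ Set.range j.base) :
    IsZero ((EtCoh.stalk ξ).obj (QSupp j)) := by
  have h1 : IsIso ((EtCoh.stalk ξ).map (EtMVLib.shriekZTo j)) := by
    let O : X.Opens := j.opensRange
    refine EtFound.isIso_stalk_of_lift j _ ξ hξ fun k _ _ z => ?_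
    have e : EtMVLib.shriekZTo j = (EtShriek.extZero j).map ((EtCore.pullConst j ℤ).inv ≫
        (EtMVLib.restrIsoPull j).inv.app _) ≫ (EtShriek.extZeroAdj j).counit.app _ := by
      simp [EtMVLib.shriekZTo, EtMVLib.shriekAdj, Adjunction.ofNatIsoRight, Adjunction.homEquiv_counit]
    rw [e, Functor.map_comp]
    have := EtFound.isIso_counit_stalk j z (EtCoh.const X ℤ)
    infer_instance
  have h2 : Epi ((EtCoh.stalk ξ).map (QSuppπ j)) := inferInstance
  have h3 : (EtCoh.stalk ξ).map (QSuppπ j) = 0 := by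
    rw [← cancel_epi ((EtCoh.stalk ξ).map (EtMVLib.shriekZTo j)), ← Functor.map_comp,
      shriekZTo_QSuppπ, Functor.map_zero, comp_zero]
  exact IsZero.of_epi_eq_zero _ h3

theorem isIso_stalk_QSuppπ {Ω : Type u} [Field Ω] [IsSepClosed Ω] (ξ : Spec (CommRingCat.of Ω) ⟶ X)
    (hξ : ξ.base (default : Spec (CommRingCat.of Ω)) ∉ Set.range j.base) :
    IsIso ((EtCoh.stalk ξ).map (QSuppπ j)) := by
  let S := ShortComplex.mk _ _ (shriekZTo_QSuppπ j)
  have hS : S.Exact := ShortComplex.exact_of_g_is_cokernel _ (cokernelIsCokernel _)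
  have h := hS.map (EtCoh.stalk ξ)
  have h0 : (S.map (EtCoh.stalk ξ)).f = 0 :=
    (EtFound.isZero_stalk_extZero j ξ hξ (EtCoh.const U ℤ)).eq_of_src _ _
  have : Mono ((EtCoh.stalk ξ).map (QSuppπ j)) := h.mono_g h0
  exact isIso_of_mono_of_epi _

theorem isZero_pull_QSupp : IsZero ((EtCoh.pull j).obj (QSupp j)) := by
  refine (EtFound.isZero_iff_stalks _).2 fun Ω _ _ z => ?_
  exact (isZero_stalk_QSupp j (z ≫ j) ⟨_, (Scheme.Hom.comp_apply _ _ _).symm⟩).of_iso
    ((EtFound.stalkPullIso j z).app _)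

theorem QSupp_comp_unit {F : EtCoh.Ab X} (φ : QSupp j ⟶ F) :
    (QSuppπ j ≫ φ) ≫ EtDual.unitApp j F = 0 := by
  apply ((EtCoh.pullPushAdj j).homEquiv _ _).symm.injective
  rw [Adjunction.homEquiv_naturality_left_symm]
  have : ((EtCoh.pullPushAdj j).homEquiv F _).symm (EtDual.unitApp j F) = 𝟙 _ :=
    (EtCoh.pullPushAdj j).left_triangle_components F
  rw [this, Category.comp_id, Functor.map_comp,
    (isZero_pull_QSupp j).eq_of_tgt ((EtCoh.pull j).map (QSuppπ j)) 0, zero_comp]
  simp [Adjunction.homEquiv_counit]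

theorem shriekZTo_comp {F : EtCoh.Ab X} (a : EtCoh.const X ℤ ⟶ (EtDual.secSupp j).obj F) :
    EtMVLib.shriekZTo j ≫ a ≫ kernel.ι (EtDual.unitApp j F) = 0 := by
  apply ((EtMVLib.shriekAdj j).homEquiv _ _).injective
  rw [Adjunction.homEquiv_naturality_right]
  have h : (EtCoh.pull j).map (a ≫ kernel.ι (EtDual.unitApp j F)) = 0 := by
    have h0 : (a ≫ kernel.ι (EtDual.unitApp j F)) ≫ EtDual.unitApp j F = 0 := by
      rw [Category.assoc, kernel.condition, comp_zero]
    have := congrArg ((EtCoh.pullPushAdj j).homEquiv _ _).symm h0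
    rw [Adjunction.homEquiv_naturality_left_symm] at this
    rw [show ((EtCoh.pullPushAdj j).homEquiv F _).symm (EtDual.unitApp j F) = 𝟙 _ from
      (EtCoh.pullPushAdj j).left_triangle_components F, Category.comp_id] at this
    rw [this]
    simp [Adjunction.homEquiv_counit]
  rw [h, comp_zero]
  simp [Adjunction.homEquiv_unit]

/-- morphisms out of `QSupp j` are morphisms from `ℤ` to sections with support -/
def homQSuppIso : homFunctor (QSupp j) ≅ EtDual.secSupp j ⋙ homFunctor (EtCoh.const X ℤ) :=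
  NatIso.ofComponents
    (fun F => AddEquiv.toAddCommGrpIso
      (show (QSupp j ⟶ F) ≃+ (EtCoh.const X ℤ ⟶ (EtDual.secSupp j).obj F) from
      { toFun := fun φ => kernel.lift _ (QSuppπ j ≫ φ) (QSupp_comp_unit j φ)
        invFun := fun a => cokernel.desc _ (a ≫ kernel.ι _) (shriekZTo_comp j a)
        left_inv := fun φ => by
          rw [← cancel_epi (QSuppπ j)]
          exact (cokernel.π_desc _ _ _).trans (kernel.lift_ι _ _ _)
        right_inv := fun a => by
          rw [← cancel_mono (kernel.ι (EtDual.unitApp j F))]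
          exact (kernel.lift_ι _ _ _).trans (cokernel.π_desc _ _ _)
        map_add' := fun φ ψ => by
          rw [← cancel_mono (kernel.ι (EtDual.unitApp j F))]
          simp }))
    (fun {F G} θ => by
      ext (φ : QSupp j ⟶ F)
      change kernel.lift (EtDual.unitApp j G) (QSuppπ j ≫ φ ≫ θ) _ =
        kernel.lift (EtDual.unitApp j F) (QSuppπ j ≫ φ) _ ≫ (EtDual.secSupp j).map θ
      rw [← cancel_mono (kernel.ι (EtDual.unitApp j G))]
      simp [EtDual.secSupp])

omit [IsOpenImmersion j] in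
theorem gammaSupp_eq : EtDual.gammaSupp j = EtDual.secSupp j ⋙ EtCore.gsec X := rfl

/-- sections with support over the whole scheme are morphisms out of `QSupp j` -/
def gammaSuppIso : EtDual.gammaSupp j ≅ homFunctor (QSupp j) :=
  (Functor.isoWhiskerLeft (EtDual.secSupp j) (homIsoGsec X)).symm ≪≫ (homQSuppIso j).symm

end Groth.Agent.EtDual68
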