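import Groth.Agent.EtDual68.TensorConst
import Groth.Agent.EtDual68.EtaleRestr
import Groth.Agent.EtLC12.MuConst
import Groth.Agent.EtFound.RootCover
import Mathlib.CategoryTheory.Sites.CoverLifting
import Mathlib.Algebra.Polynomial.Degree.Domain
import Mathlib.FieldTheory.Separable

/-!
# Tate twists are etale locally constant
-/

universe u

open CategoryTheory CategoryTheory.Limits AlgebraicGeometry Opposite TensorProduct

noncomputable section

namespace Groth.Agent.EtDual68

set_option backward.isDefEq.respectTransparency.types false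

variable {X : Scheme.{u}}

/-- tensor products of isomorphic sheaves are isomorphic -/
def tensorAbIso {F F' G G' : EtCoh.Ab X} (a : F ≅ F') (b : G ≅ G') :
    EtDual.tensorAb F G ≅ EtDual.tensorAb F' G' :=
  (presheafToSheaf X.smallEtaleTopology AddCommGrpCat.{u + 1}).mapIso
    (NatIso.ofComponents
      (fun W => AddEquiv.toAddCommGrpIso (show F.obj.obj W ⊗[ℤ] G.obj.obj W ≃+ F'.obj.obj W ⊗[ℤ] G'.obj.obj W from
        (TensorProduct.congr
          (((sheafToPresheaf _ _).mapIso a).app W).addCommGroupIsoToAddEquiv.toIntLinearEquiv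
          (((sheafToPresheaf _ _).mapIso b).app W).addCommGroupIsoToAddEquiv.toIntLinearEquiv).toAddEquiv))
      (fun {W W'} f => by
        refine AddCommGrpCat.hom_ext (AddMonoidHom.ext fun t => ?_)
        induction t using TensorProduct.induction_on with
        | zero => exact (map_zero _).trans (map_zero _).symm
        | tmul x y =>
          exact congrArg₂ (fun (p : F'.obj.obj W') (q : G'.obj.obj W') => p ⊗ₜ[ℤ] q)
            (NatTrans.naturality_apply a.hom.hom f x) (NatTrans.naturality_apply b.hom.hom f y)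
        | add x y hx hy => exact (map_add _ x y).trans ((congrArg₂ (· + ·) hx hy).trans (map_add _ x y).symm)))

variable {V : Scheme.{u}} (f : V ⟶ X) [AlgebraicGeometry.Etale f]

theorem compEtale_isCocontinuous :
    (EtShriek.compEtale f).IsCocontinuous V.smallEtaleTopology X.smallEtaleTopology := by
  constructor
  intro W S hS
  rw [EtFound.mem_topology_iff] at hS ⊢
  intro x
  obtain ⟨T, g, t, hg, ht⟩ := hS x
  let T' := (EtShriek.compEtaleLift f g).1
  let i := (EtShriek.compEtaleLift f g).2
  let g' : T' ⟶ W := MorphismProperty.Over.homMk g.left rfl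
  have hg' : (EtShriek.compEtale f).map g' = i.hom ≫ g :=
    MorphismProperty.Over.Hom.ext (Category.id_comp _).symm
  refine ⟨T', g', t, ?_, ht⟩
  show S.arrows ((EtShriek.compEtale f).map g')
  rw [hg']
  exact S.downward_closed hg i.hom

variable [EtShriek.JCont f]

/-- restriction along an etale morphism commutes with tensor products -/
def restrTensorIso (F G : EtCoh.Ab X) :
    (EtShriek.restrAlong f).obj (EtDual.tensorAb F G) ≅
      EtDual.tensorAb ((EtShriek.restrAlong f).obj F) ((EtShriek.restrAlong f).obj G) :=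
  haveI := compEtale_isCocontinuous f
  (((EtShriek.compEtale f).pushforwardContinuousSheafificationCompatibility AddCommGrpCat.{u + 1}
    V.smallEtaleTopology X.smallEtaleTopology).app (EtDual.tensorPre F G)).symm

/-- restriction of `G_m` -/
def restrGmIso : (EtShriek.restrAlong f).obj (EtCoh.Gm X) ≅ EtCoh.Gm V :=
  (fullyFaithfulSheafToPresheaf _ _).preimageIso
    (NatIso.ofComponents (fun W => eqToIso rfl) (fun {W W'} g =>
      (Category.comp_id _).trans (Category.id_comp _).symm))

/-- restriction of `μ_n` -/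
def restrMuIso (n : ℕ) : (EtShriek.restrAlong f).obj (EtCoh.mu X n) ≅ EtCoh.mu V n :=
  haveI := (EtShriek.extZeroAdj f).isRightAdjoint
  haveI : (EtShriek.restrAlong f).Additive := Functor.additive_of_preserves_binary_products _
  haveI : PreservesLimits (EtShriek.restrAlong f) := (EtShriek.extZeroAdj f).rightAdjoint_preservesLimits
  PreservesKernel.iso (EtShriek.restrAlong f) (EtCoh.powMap X n) ≪≫
    kernel.mapIso _ _ (restrGmIso f) (restrGmIso f) (by
      rw [EtCoh.powMap, EtCoh.powMap, Functor.map_nsmul, CategoryTheory.Functor.map_id, Preadditive.nsmul_comp,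
        Category.id_comp, Preadditive.comp_nsmul, Category.comp_id])

theorem nonempty_restr_tate_iso (n : ℕ) : ∀ d : ℕ,
    Nonempty ((EtShriek.restrAlong f).obj (EtDual.tate X n d) ≅ EtDual.tate V n d)
  | 0 => ⟨(restrIsoPullEt f).app _ ≪≫ EtCore.pullConst f (ZMod n)⟩
  | d + 1 => by
    obtain ⟨e⟩ := nonempty_restr_tate_iso n d
    exact ⟨restrTensorIso f _ _ ≪≫ tensorAbIso e (restrMuIso f n)⟩

theorem nonempty_pull_tate_iso (n d : ℕ) :
    Nonempty ((EtCoh.pull f).obj (EtDual.tate X n d) ≅ EtDual.tate V n d) :=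
  (nonempty_restr_tate_iso f n d).map fun e => ((restrIsoPullEt f).app _).symm ≪≫ e

omit [EtShriek.JCont f] in
/-- inverse images of Tate twists along etale morphisms -/
theorem nonempty_pull_tate_iso' (n d : ℕ) :
    Nonempty ((EtCoh.pull f).obj (EtDual.tate X n d) ≅ EtDual.tate V n d) := by
  have := EtFound.jCont f
  exact nonempty_pull_tate_iso f n d

omit f [AlgebraicGeometry.Etale f] [EtShriek.JCont f] in
theorem nonempty_tate_iso_const_of_mu (n : ℕ) (e : EtCoh.mu X n ≅ EtCoh.const X (ZMod n)) : ∀ d : ℕ,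
    Nonempty (EtDual.tate X n d ≅ EtCoh.const X (ZMod n))
  | 0 => ⟨Iso.refl _⟩
  | d + 1 => by
    obtain ⟨a⟩ := nonempty_tate_iso_const_of_mu n e d
    obtain ⟨b⟩ := nonempty_tensor_const_iso (killedBy_const X n)
    exact ⟨tensorAbIso a e ≪≫ b⟩

omit f [AlgebraicGeometry.Etale f] [EtShriek.JCont f] in
/-- etale-locally `μ_n` is constant -/
theorem exists_nhd_mu_iso_const (n : ℕ) [NeZero n] (hn : IsUnit (n : Γ(X, ⊤))) (x : X) :
    ∃ W : X.Etale, (∃ w : W.left, W.hom.base w = x) ∧
      Nonempty (EtCoh.mu W.left n ≅ EtCoh.const W.left (ZMod n)) := by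
  let p : Polynomial Γ((EtCoh.top X).left, ⊤) := Polynomial.cyclotomic n _
  have hsep : p.Separable :=
    Polynomial.Separable.of_dvd ((Polynomial.separable_X_pow_sub_C_unit 1 hn : _))
      (by rw [Units.val_one, map_one]; exact Polynomial.cyclotomic.dvd_X_pow_sub_one n _)
  obtain ⟨a, b, hab⟩ := hsep
  obtain ⟨W, g, w, t, hw, ht⟩ := EtFound.exists_etale_root (EtCoh.top X) p
    (Polynomial.cyclotomic.monic n _) (fun R _ _ φ => by
      rw [Polynomial.map_cyclotomic, Polynomial.natDegree_cyclotomic]
      exact Nat.totient_pos.2 (NeZero.pos n))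
    ⟨b, a, by rw [mul_comm, add_comm, mul_comm p]; exact hab⟩ x
  refine ⟨W, ⟨w, ?_⟩, ?_⟩
  · rw [← MorphismProperty.Over.w g]
    exact (Scheme.Hom.comp_apply _ _ _).trans hw
  · refine EtLC12.MuConst.nonempty_mu_iso_const ?_ t ?_
    · have := hn.map (W.hom : W.left ⟶ X).appTop.hom
      rwa [map_natCast] at this
    · rw [Polynomial.eval₂_eq_eval_map, Polynomial.map_cyclotomic] at ht
      rw [Polynomial.aeval_def, Polynomial.eval₂_eq_eval_map, Polynomial.map_cyclotomic]
      exact ht

end Groth.Agent.EtDual68
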