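import Groth.Agent.EtDual68.LocCohRestr
import Groth.Agent.EtDual68.TateLocal
import Groth.Agent.EtDual68.CompDerived

/-!
# Vanishing of local cohomology is insensitive to Tate twists; edge isomorphisms
-/

universe u

open CategoryTheory CategoryTheory.Limits AlgebraicGeometry Opposite

noncomputable section

namespace Groth.Agent.EtDual68

set_option backward.isDefEq.respectTransparency.types false

variable {X U : Scheme.{u}}

theorem isZero_of_isEmpty [IsEmpty X] (G : EtCoh.Ab X) : IsZero G :=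
  (EtFound.isZero_iff_stalks G).2 fun _ _ _ ξ => IsEmpty.elim ‹_› (ξ.base default)

theorem isEmpty_of_isUnit_zero (h : IsUnit (0 : Γ(X, ⊤))) : IsEmpty X := by
  refine ⟨fun x => ?_⟩
  have : Subsingleton Γ(X, ⊤) := subsingleton_of_zero_eq_one (isUnit_zero_iff.1 h)
  have h1 := (Scheme.basicOpen_zero (X := X) (U := ⊤))
  rw [Subsingleton.elim (0 : Γ(X, ⊤)) 1, Scheme.basicOpen_of_isUnit (X := X) isUnit_one] at h1
  exact (show x ∈ (⊥ : X.Opens) from h1 ▸ TopologicalSpace.Opens.mem_top x)

/-- vanishing of local cohomology passes from `ℤ/n` to its Tate twists -/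
theorem isZero_locCoh_tate (j : U ⟶ X) (n : ℕ) (hn : IsUnit (n : Γ(X, ⊤))) (c p : ℕ)
    (h : IsZero ((EtDual.locCoh j p).obj (EtCoh.const X (ZMod n)))) :
    IsZero ((EtDual.locCoh j p).obj (EtDual.tate X n c)) := by
  rcases Nat.eq_zero_or_pos n with rfl | hpos
  · have := isEmpty_of_isUnit_zero (by simpa using hn)
    exact isZero_of_isEmpty _
  have : NeZero n := ⟨hpos.ne'⟩
  refine (EtFound.isZero_iff_stalks _).2 fun Ω _ _ ξ => ?_
  obtain ⟨W, ⟨w, hw⟩, ⟨e⟩⟩ := exists_nhd_mu_iso_const n hn (ξ.base default)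
  have : AlgebraicGeometry.Etale W.hom := W.prop
  obtain ⟨k, _, _, z, t, htz⟩ := EtFound.exists_lift_extension W.hom ξ ⟨w, hw⟩
  refine IsZero.of_iso ?_ ((EtFound.stalkExtIso AddCommGrpCat.{u + 1} ξ t).app _)
  rw [htz]
  refine IsZero.of_iso ?_ ((EtFound.stalkPullIso W.hom z).app _).symm
  refine (EtCoh.stalk z).map_isZero ?_
  obtain ⟨a⟩ := nonempty_locCoh_pull_iso j W.hom (pullback.snd j W.hom) (pullback.fst j W.hom)
    (IsPullback.of_hasPullback j W.hom) p
  obtain ⟨b⟩ := nonempty_pull_tate_iso' W.hom n c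
  obtain ⟨d⟩ := nonempty_tate_iso_const_of_mu n e c
  refine IsZero.of_iso ?_ (a.app _)
  refine IsZero.of_iso ?_ ((EtDual.locCoh (pullback.snd j W.hom) p).mapIso
    (b ≪≫ d ≪≫ (EtCore.pullConst W.hom (ZMod n)).symm))
  exact ((EtCoh.pull W.hom).map_isZero h).of_iso (a.app _).symm

variable (j : U ⟶ X) [IsOpenImmersion j]

theorem secSupp_preservesInjectiveObjects : (EtDual.secSupp j).PreservesInjectiveObjects :=
  ⟨fun {G} hG => @injective_secSupp _ _ j _ G hG⟩

theorem gsec_preservesFiniteLimits : PreservesFiniteLimits (EtCore.gsec X) := by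
  have := (EtCore.constAdj X).isRightAdjoint
  infer_instance

instance gsec_additive : (EtCore.gsec X).Additive :=
  haveI := gsec_preservesFiniteLimits (X := X)
  Functor.additive_of_preserves_binary_products _

theorem nonempty_HY_iso_gsec_locCoh (m : ℕ) (F : EtCoh.Ab X)
    (h : ∀ p, p < m → IsZero ((EtDual.locCoh j p).obj F)) :
    Nonempty ((EtDual.HY j m).obj F ≅ (EtCore.gsec X).obj ((EtDual.locCoh j m).obj F)) := by
  have := secSupp_preservesFiniteLimits j
  have := secSupp_preservesInjectiveObjects j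
  have := gsec_preservesFiniteLimits (X := X)
  exact nonempty_comp_rightDerived_iso_of_vanishing (EtDual.secSupp j) (EtCore.gsec X) m F h

theorem isZero_HY_of_locCoh (m : ℕ) (F : EtCoh.Ab X)
    (h : ∀ p, p ≤ m → IsZero ((EtDual.locCoh j p).obj F)) :
    IsZero ((EtDual.HY j m).obj F) := by
  have := secSupp_preservesFiniteLimits j
  have := secSupp_preservesInjectiveObjects j
  have := gsec_preservesFiniteLimits (X := X)
  exact isZero_comp_rightDerived_of_vanishing (EtDual.secSupp j) (EtCore.gsec X) m F h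

end Groth.Agent.EtDual68
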