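import Groth.Agent.EtDual68.Excision
import Groth.Agent.EtDual68.LocCohTate
import Mathlib.Algebra.Homology.HomologicalComplexAbelian
import Mathlib.Algebra.Homology.HomologySequence

/-!
# Changing the support: `H_Z → H_Y → H_{Y∖Z}(X∖Z)`
-/

universe v u v₂ u₂

open CategoryTheory CategoryTheory.Limits AlgebraicGeometry Opposite

noncomputable section

namespace Groth.Agent.EtDual68

section General

variable {A : Type u} [Category.{v} A] [Abelian A] [EnoughInjectives A]
  {D : Type u₂} [Category.{v₂} D] [Abelian D] {T₁ T₂ T₃ : A ⥤ D} [T₁.Additive] [T₂.Additive] [T₃.Additive]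

/-- middle and right derived functors agree where the left ones vanish -/
theorem nonempty_rightDerived_iso_of_shortExact (α : T₁ ⟶ T₂) (β : T₂ ⟶ T₃)
    (w : ∀ F, α.app F ≫ β.app F = 0)
    (hS : ∀ I : A, Injective I → (ShortComplex.mk (α.app I) (β.app I) (w I)).ShortExact)
    (m : ℕ) (F : A) (h₀ : IsZero ((T₁.rightDerived m).obj F))
    (h₁ : IsZero ((T₁.rightDerived (m + 1)).obj F)) :
    Nonempty ((T₂.rightDerived m).obj F ≅ (T₃.rightDerived m).obj F) := by
  let I := injectiveResolution F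
  let a := (NatTrans.mapHomologicalComplex α (ComplexShape.up ℕ)).app I.cocomplex
  let b := (NatTrans.mapHomologicalComplex β (ComplexShape.up ℕ)).app I.cocomplex
  let S := ShortComplex.mk a b (HomologicalComplex.hom_ext _ _ fun i => w (I.cocomplex.X i))
  have hE : S.ShortExact := HomologicalComplex.shortExact_of_degreewise_shortExact S
    fun i => hS (I.cocomplex.X i) (I.injective i)
  have z₀ : IsZero (S.X₁.homology m) := h₀.of_iso (I.isoRightDerivedObj T₁ m).symm
  have z₁ : IsZero (S.X₁.homology (m + 1)) := h₁.of_iso (I.isoRightDerivedObj T₁ (m + 1)).symm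
  have hm : Mono (HomologicalComplex.homologyMap S.g m) :=
    (hE.homology_exact₂ m).mono_g (z₀.eq_of_src _ _)
  have he : Epi (HomologicalComplex.homologyMap S.g m) :=
    (hE.homology_exact₃ m (m + 1) rfl).epi_f (z₁.eq_of_tgt _ _)
  have hi : IsIso (HomologicalComplex.homologyMap S.g m) := @isIso_of_mono_of_epi _ _ _ _ _ _ hm he
  exact ⟨I.isoRightDerivedObj T₂ m ≪≫ @asIso _ _ _ _ (HomologicalComplex.homologyMap S.g m) hi ≪≫
    (I.isoRightDerivedObj T₃ m).symm⟩

omit [EnoughInjectives A] in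
/-- morphisms out of a short exact sequence into an injective -/
theorem shortExact_coyoneda {P Q R : A} {a : P ⟶ Q} {b : Q ⟶ R} (w : a ≫ b = 0)
    (h : (ShortComplex.mk a b w).ShortExact) (I : A) [Injective I] :
    (ShortComplex.mk ((preadditiveCoyoneda.map b.op).app I) ((preadditiveCoyoneda.map a.op).app I) (by
      ext (x : R ⟶ I)
      exact (Category.assoc _ _ _).symm.trans ((congrArg (· ≫ x) w).trans zero_comp))).ShortExact where
  exact := by
    rw [ShortComplex.ab_exact_iff]
    intro (x : Q ⟶ I) (hx : a ≫ x = 0)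
    have := h.epi_g
    exact ⟨h.exact.desc x hx, h.exact.g_desc x hx⟩
  mono_f := by
    rw [AddCommGrpCat.mono_iff_injective]
    intro (x : R ⟶ I) (y : R ⟶ I) (hxy : b ≫ x = b ≫ y)
    have : Epi b := h.epi_g
    exact (cancel_epi b).1 hxy
  epi_g := by
    rw [AddCommGrpCat.epi_iff_surjective]
    intro (x : P ⟶ I)
    have : Mono a := h.mono_f
    exact ⟨Injective.factorThru x a, Injective.comp_factorThru x a⟩

end General

set_option backward.isDefEq.respectTransparency.types false

variable {X X' U : Scheme.{u}} (j : U ⟶ X) [IsOpenImmersion j] (k : X' ⟶ X) [IsOpenImmersion k]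
  (j' : U ⟶ X') [IsOpenImmersion j'] (hfac : j' ≫ k = j)

omit [IsOpenImmersion j] [IsOpenImmersion j'] in
include hfac in
theorem range_eq_preimage : Set.range j'.base = k.base ⁻¹' Set.range j.base := by
  subst hfac
  rw [Scheme.Hom.comp_base, TopCat.coe_comp, Set.range_comp]
  exact (Set.preimage_image_eq _ k.isOpenEmbedding.injective).symm

omit [IsOpenImmersion j'] in
include hfac in
theorem shriekZTo_QSuppπ_of_le : EtMVLib.shriekZTo j ≫ QSuppπ k = 0 := by
  refine ((EtMVLib.shriekAdj j).homEquiv _ _).injective (IsZero.eq_of_tgt ?_ _ _)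
  refine (EtFound.isZero_iff_stalks _).2 fun Ω _ _ z => ?_
  refine (isZero_stalk_QSupp k (z ≫ j) ?_).of_iso ((EtFound.stalkPullIso j z).app _)
  subst hfac
  exact ⟨(z ≫ j').base default, (Scheme.Hom.comp_apply _ _ _).symm.trans (by rw [Category.assoc])⟩

/-- `QSupp j ⟶ QSupp k` for `U ⊆ X'` -/
def QSuppRes : QSupp j ⟶ QSupp k := cokernel.desc _ (QSuppπ k) (shriekZTo_QSuppπ_of_le j k j' hfac)

omit [IsOpenImmersion j'] in
theorem counit_QSuppRes :
    (EtShriek.extZeroAdj k).counit.app (QSupp j) ≫ QSuppRes j k j' hfac = 0 := by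
  refine EtFound.eq_of_stalks _ _ fun Ω _ _ ξ => ?_
  by_cases hξ : ξ.base (default : Spec (CommRingCat.of Ω)) ∈ Set.range k.base
  · exact (isZero_stalk_QSupp k ξ hξ).eq_of_tgt _ _
  · exact (EtFound.isZero_stalk_extZero k ξ hξ _).eq_of_src _ _

omit [IsOpenImmersion j'] in
theorem shortExact_QSuppRes :
    (ShortComplex.mk _ _ (counit_QSuppRes j k j' hfac)).ShortExact := by
  have hπ : ∀ {Ω : Type u} [Field Ω] [IsSepClosed Ω] (ξ : Spec (CommRingCat.of Ω) ⟶ X),
      ξ.base (default : Spec (CommRingCat.of Ω)) ∉ Set.range k.base →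
      IsIso ((EtCoh.stalk ξ).map (QSuppRes j k j' hfac)) := fun ξ hξ => by
    have h1 := isIso_stalk_QSuppπ j ξ (fun h => hξ (by
      obtain ⟨u, hu⟩ := h
      subst hfac
      exact ⟨j'.base u, (Scheme.Hom.comp_apply _ _ _).symm.trans hu⟩))
    have h2 := isIso_stalk_QSuppπ k ξ hξ
    have h3 : (EtCoh.stalk ξ).map (QSuppπ j) ≫ (EtCoh.stalk ξ).map (QSuppRes j k j' hfac) =
        (EtCoh.stalk ξ).map (QSuppπ k) := by
      rw [← Functor.map_comp]
      exact congrArg _ (cokernel.π_desc _ _ _)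
    exact @IsIso.of_isIso_fac_left _ _ _ _ _ _ _ _ h1 h2 h3
  have hc : ∀ {Ω : Type u} [Field Ω] [IsSepClosed Ω] (ξ : Spec (CommRingCat.of Ω) ⟶ X),
      ξ.base (default : Spec (CommRingCat.of Ω)) ∈ Set.range k.base →
      IsIso ((EtCoh.stalk ξ).map ((EtShriek.extZeroAdj k).counit.app (QSupp j))) := fun ξ hξ =>
    EtFound.isIso_stalk_of_lift k _ ξ hξ fun l _ _ z => EtFound.isIso_counit_stalk k z _
  refine ShortComplex.ShortExact.mk' ?_ ?_ ?_
  · refine (EtFound.exact_iff_stalks _).2 fun Ω _ _ ξ => ?_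
    by_cases hξ : ξ.base (default : Spec (CommRingCat.of Ω)) ∈ Set.range k.base
    · exact (ShortComplex.exact_iff_epi _ ((isZero_stalk_QSupp k ξ hξ).eq_of_tgt _ _)).2
        (@IsIso.epi_of_iso _ _ _ _ _ (hc ξ hξ))
    · exact (ShortComplex.exact_iff_mono _ ((EtFound.isZero_stalk_extZero k ξ hξ _).eq_of_src _ _)).2
        (@IsIso.mono_of_iso _ _ _ _ _ (hπ ξ hξ))
  · refine (EtFound.mono_iff_stalks _).2 fun Ω _ _ ξ => ?_
    by_cases hξ : ξ.base (default : Spec (CommRingCat.of Ω)) ∈ Set.range k.base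
    · exact ((ConcreteCategory.isIso_iff_bijective _).1 (hc ξ hξ)).1
    · exact fun a b _ => @Subsingleton.elim _
        (AddCommGrpCat.subsingleton_of_isZero (EtFound.isZero_stalk_extZero k ξ hξ _)) a b
  · refine (EtFound.epi_iff_stalks _).2 fun Ω _ _ ξ => ?_
    by_cases hξ : ξ.base (default : Spec (CommRingCat.of Ω)) ∈ Set.range k.base
    · exact fun b => ⟨0, @Subsingleton.elim _
        (AddCommGrpCat.subsingleton_of_isZero (isZero_stalk_QSupp k ξ hξ)) _ b⟩
    · exact ((ConcreteCategory.isIso_iff_bijective _).1 (hπ ξ hξ)).2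

include hfac in
theorem nonempty_HY_iso_of_vanishing (m : ℕ) (F : EtCoh.Ab X)
    (h₀ : IsZero ((EtDual.HY k m).obj F)) (h₁ : IsZero ((EtDual.HY k (m + 1)).obj F)) :
    Nonempty ((EtDual.HY j m).obj F ≅ (EtDual.HY j' m).obj ((EtCoh.pull k).obj F)) := by
  have hr := range_eq_preimage j k j' hfac
  have := (pull_exact k).1
  have := (pull_exact k).2
  have := pull_preservesInjectiveObjects k
  have := isIso_QSuppPullMap k j j' hr
  have := (EtMVLib.shriekAdj k).left_adjoint_additive
  obtain ⟨e⟩ := nonempty_rightDerived_iso_of_shortExact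
    (preadditiveCoyoneda.map (QSuppRes j k j' hfac).op)
    (preadditiveCoyoneda.map ((EtShriek.extZeroAdj k).counit.app (QSupp j)).op)
    (fun G => by
      ext (x : QSupp k ⟶ G)
      exact (Category.assoc _ _ _).symm.trans
        ((congrArg (· ≫ x) (counit_QSuppRes j k j' hfac)).trans zero_comp))
    (fun I _ => shortExact_coyoneda _ (shortExact_QSuppRes j k j' hfac) I) m F
    (h₀.of_iso ((BigSiteLib.rightDerivedIso (gammaSuppIso k) m).app F).symm)
    (h₁.of_iso ((BigSiteLib.rightDerivedIso (gammaSuppIso k) (m + 1)).app F).symm)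
  let e₁ : (EtShriek.extZero k).obj ((EtShriek.restrAlong k).obj (QSupp j)) ≅
      (EtShriek.extZero k).obj (QSupp j') :=
    (EtShriek.extZero k).mapIso ((EtMVLib.restrIsoPull k).app (QSupp j) ≪≫
      (asIso (QSuppPullMap k j j' hr)).symm)
  let e₂ : homFunctor ((EtShriek.extZero k).obj ((EtShriek.restrAlong k).obj (QSupp j))) ≅
      EtCoh.pull k ⋙ homFunctor (QSupp j') :=
    (preadditiveCoyoneda.mapIso e₁.op).symm ≪≫
      NatIso.ofComponents (fun G => AddEquiv.toAddCommGrpIso
        (show ((EtShriek.extZero k).obj (QSupp j') ⟶ G) ≃+ (QSupp j' ⟶ (EtCoh.pull k).obj G) from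
          (EtMVLib.shriekAdj k).homAddEquiv _ _))
        (fun {G G'} φ => by
          ext (a : (EtShriek.extZero k).obj (QSupp j') ⟶ G)
          exact (EtMVLib.shriekAdj k).homEquiv_naturality_right a φ)
  exact ⟨(BigSiteLib.rightDerivedIso (gammaSuppIso j) m).app F ≪≫ e ≪≫
    (BigSiteLib.rightDerivedIso (e₂ ≪≫ Functor.isoWhiskerLeft _ (gammaSuppIso j').symm) m).app F ≪≫
    (SiteBase.rightDerivedPrecompIso (EtCoh.pull k) (EtDual.gammaSupp j') m).app F⟩

end Groth.Agent.EtDual68
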