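import Groth.Agent.EtDual68.OpensMV
import Groth.Agent.EtDual68.SuppHom
import Groth.Agent.SiteBase.AbSecExact
import Mathlib.CategoryTheory.Abelian.Injective.Ext
import Groth.Agent.SiteBase.DerivedExt
import Groth.Agent.EtDual68.SupportLES

/-!
# Local cohomology as Ext out of the cokernel of `ℤ[V] ⟶ ℤ[X]`
-/

universe u

open CategoryTheory CategoryTheory.Limits AlgebraicGeometry Opposite CategoryTheory.Abelian

noncomputable section

namespace Groth.Agent.EtDual68.PuncturedLES

set_option backward.isDefEq.respectTransparency false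
set_option backward.isDefEq.respectTransparency.types false

open EtDerLib (ZU ZUmap zuEquiv zuEquiv_ZUmap zuEquiv_comp zuEquiv_eq)
open OpensMV (opU res)
open scoped OpensMV

variable {X : Scheme.{u}} (V : X.Opens)

/-- `V` over the whole scheme -/
def toTop (T : X.Etale) : T ⟶ EtCoh.top X :=
  MorphismProperty.Over.homMk T.hom (Category.comp_id _) trivial

theorem toTop_unique {T : X.Etale} (a b : T ⟶ EtCoh.top X) : a = b := by
  refine MorphismProperty.Over.Hom.ext ?_
  have ha : a.left ≫ 𝟙 X = T.hom := MorphismProperty.Over.w a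
  have hb : b.left ≫ 𝟙 X = T.hom := MorphismProperty.Over.w b
  exact (Category.comp_id _).symm.trans (ha.trans (hb.symm.trans (Category.comp_id _)))

/-- restriction to `V` -/
abbrev toTopV : opU V ⟶ EtCoh.top X := toTop _

instance mono_toTopV : Mono (toTopV V) := ⟨fun a b _ => OpensMV.inclU_unique a b⟩

/-- `ℤ[X] / ℤ[V]` -/
abbrev Q : EtCoh.Ab X := cokernel (ZUmap (toTopV V))

theorem shortExact_Q :
    (ShortComplex.mk (ZUmap (toTopV V)) (cokernel.π (ZUmap (toTopV V))) (cokernel.condition _)).ShortExact :=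
  haveI := OpensMV.mono_ZUmap (toTopV V)
  { exact := ShortComplex.exact_of_g_is_cokernel _ (cokernelIsCokernel _) }

/-- sections killed by the unit are those vanishing on `V` -/
theorem unitApp_top_eq_zero_iff (G : EtCoh.Ab X) (s : G.obj.obj (op (EtCoh.top X))) :
    (EtDual.unitApp V.ι G).hom.app (op (EtCoh.top X)) s = 0 ↔ G.obj.map (toTopV V).op s = 0 := by
  let ad : EtShriek.compEtale V.ι ⊣ EtCoh.bc V.ι :=
    MorphismProperty.Over.mapPullbackAdj EtCoh.etaleMP ⊤ V.ι
      (inferInstanceAs (AlgebraicGeometry.Etale V.ι)) trivial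
  let A := ad.sheafPushforwardContinuous (E := AddCommGrpCat.{u + 1}) (↑V : Scheme.{u}).smallEtaleTopology
    X.smallEtaleTopology
  have hu : A.unit.app G ≫ (EtCoh.push V.ι).map ((EtMVLib.restrIsoPull V.ι).hom.app G) = EtDual.unitApp V.ι G :=
    Adjunction.unit_leftAdjointUniq_hom_app A (EtCoh.pullPushAdj V.ι) G
  have hinj : Function.Injective (((EtCoh.push V.ι).map ((EtMVLib.restrIsoPull V.ι).hom.app G)).hom.app
      (op (EtCoh.top X))) := SiteBase.sheaf_app_injective _ _
  let W := (EtShriek.compEtale V.ι).obj ((EtCoh.bc V.ι).obj (EtCoh.top X))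
  have h1 : (EtDual.unitApp V.ι G).hom.app (op (EtCoh.top X)) s = 0 ↔
      G.obj.map (ad.counit.app (EtCoh.top X)).op s = 0 := by
    rw [← hu]
    exact map_eq_zero_iff _ hinj
  let w : W ⟶ opU V := MorphismProperty.Over.homMk (pullback.snd (𝟙 X) V.ι) rfl trivial
  let v : opU V ⟶ W := MorphismProperty.Over.homMk
    (pullback.lift V.ι (𝟙 _) ((Category.comp_id _).trans (Category.id_comp _).symm)) (by
      show pullback.lift _ _ _ ≫ pullback.snd (𝟙 X) V.ι ≫ V.ι = V.ι
      exact (pullback.lift_snd_assoc _ _ _ _).trans (Category.id_comp _)) trivial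
  rw [h1]
  constructor <;> intro h
  · rw [toTop_unique (toTopV V) (v ≫ ad.counit.app (EtCoh.top X)), op_comp, Functor.map_comp,
      ConcreteCategory.comp_apply]
    exact (congrArg _ h).trans (map_zero _)
  · rw [toTop_unique (ad.counit.app (EtCoh.top X)) (w ≫ toTopV V), op_comp, Functor.map_comp,
      ConcreteCategory.comp_apply]
    exact (congrArg _ h).trans (map_zero _)

/-- the section attached to a section with support -/
theorem kernelι_res (G : EtCoh.Ab X) (s : ((EtDual.gammaSupp V.ι).obj G)) :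
    G.obj.map (toTopV V).op ((kernel.ι (EtDual.unitApp V.ι G)).hom.app (op (EtCoh.top X)) s) = 0 :=
  (unitApp_top_eq_zero_iff V G _).1 <|
    ConcreteCategory.congr_hom (congrArg (fun f : (EtDual.secSupp V.ι).obj G ⟶ _ => f.hom.app (op (EtCoh.top X)))
      (kernel.condition (EtDual.unitApp V.ι G))) s

theorem ZUmap_comp_symm (G : EtCoh.Ab X) (t : G.obj.obj (op (EtCoh.top X)))
    (ht : G.obj.map (toTopV V).op t = 0) : ZUmap (toTopV V) ≫ (zuEquiv _ G).symm t = 0 := by
  refine (zuEquiv _ G).injective ?_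
  rw [zuEquiv_ZUmap, Equiv.apply_symm_apply, ht, zuEquiv_eq]
  rfl

/-- from sections with support to morphisms -/
def toHom (G : EtCoh.Ab X) (s : (EtDual.gammaSupp V.ι).obj G) : Q V ⟶ G :=
  cokernel.desc _ _ (ZUmap_comp_symm V G _ (kernelι_res V G s))

theorem zuEquiv_toHom (G : EtCoh.Ab X) (s : (EtDual.gammaSupp V.ι).obj G) :
    zuEquiv _ G (cokernel.π _ ≫ toHom V G s) =
      (kernel.ι (EtDual.unitApp V.ι G)).hom.app (op (EtCoh.top X)) s := by
  rw [toHom, cokernel.π_desc, Equiv.apply_symm_apply]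

theorem toHom_bijective (G : EtCoh.Ab X) : Function.Bijective (toHom V G) := by
  refine ⟨fun s t h => SiteBase.sheaf_app_injective (kernel.ι (EtDual.unitApp V.ι G)) _ ?_, fun φ => ?_⟩
  · rw [← zuEquiv_toHom, ← zuEquiv_toHom, h]
  · have h0 : G.obj.map (toTopV V).op (zuEquiv _ G (cokernel.π _ ≫ φ)) = 0 := by
      rw [← zuEquiv_ZUmap, cokernel.condition_assoc, zero_comp, zuEquiv_eq]
      rfl
    obtain ⟨z, hz⟩ := SiteBase.exists_kernel_section
      (ShortComplex.mk (kernel.ι (EtDual.unitApp V.ι G)) _ (kernel.condition _)) _ _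
      ((unitApp_top_eq_zero_iff V G _).2 h0)
    refine ⟨z, coequalizer.hom_ext ((zuEquiv _ G).injective ?_)⟩
    exact (zuEquiv_toHom V G z).trans hz

omit V in
theorem zuEquiv_add (T : X.Etale) {G : EtCoh.Ab X} (a b : ZU T ⟶ G) :
    zuEquiv T G (a + b) = zuEquiv T G a + zuEquiv T G b := by
  simp only [zuEquiv_eq]
  rfl

/-- sections with support are morphisms out of `Q V` -/
def gammaIso : EtDual.gammaSupp V.ι ≅ homFunctor (Q V) :=
  NatIso.ofComponents
    (fun G => AddEquiv.toAddCommGrpIso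
      (show (EtDual.gammaSupp V.ι).obj G ≃+ (Q V ⟶ G) from
        AddEquiv.mk' (Equiv.ofBijective _ (toHom_bijective V G)) fun s t => by
          refine coequalizer.hom_ext ((zuEquiv _ G).injective ?_)
          show zuEquiv _ G (cokernel.π _ ≫ toHom V G (s + t)) = zuEquiv _ G (cokernel.π _ ≫ (toHom V G s + toHom V G t))
          rw [Preadditive.comp_add, zuEquiv_add, zuEquiv_toHom, zuEquiv_toHom, zuEquiv_toHom]
          exact map_add _ _ _))
    (fun {G G'} θ => by
      ext (s : (EtDual.gammaSupp V.ι).obj G)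
      show toHom V G' ((EtDual.gammaSupp V.ι).map θ s) = toHom V G s ≫ θ
      refine coequalizer.hom_ext ((zuEquiv _ G').injective ?_)
      refine (zuEquiv_toHom V G' _).trans ?_
      refine Eq.trans ?_ (congrArg (zuEquiv _ G') (Category.assoc _ _ _))
      rw [zuEquiv_comp, zuEquiv_toHom]
      exact ConcreteCategory.congr_hom (congrArg
        (fun f : (EtDual.secSupp V.ι).obj G ⟶ G' => f.hom.app (op (EtCoh.top X)))
        (kernel.lift_ι _ _ _ : (EtDual.secSupp V.ι).map θ ≫ kernel.ι (EtDual.unitApp V.ι G') = _)) s)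

omit V in
/-- derived functors of `Hom(P, -)` vanish with Ext -/
theorem isZero_rightDerived_homFunctor (P : EtCoh.Ab X) (q : ℕ) (G : EtCoh.Ab X)
    (h : ∀ x : Ext P G q, x = 0) : IsZero (((homFunctor P).rightDerived q).obj G) := by
  let I := injectiveResolution G
  refine IsZero.of_iso ?_ (I.isoRightDerivedObj _ q)
  have hK : ∀ (x : P ⟶ I.cocomplex.X q), x ≫ I.cocomplex.d q (q + 1) = 0 →
      ∃ y : P ⟶ I.cocomplex.X ((ComplexShape.up ℕ).prev q),
        y ≫ I.cocomplex.d ((ComplexShape.up ℕ).prev q) q = x := by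
    intro x hx
    cases q with
    | zero => exact ⟨0, by
        rw [zero_comp]; exact (SiteBase.HomPres.extMk_zero_degree_eq_zero I x hx (h _)).symm⟩
    | succ p =>
      rw [CochainComplex.prev_nat_succ]
      exact (I.extMk_eq_zero_iff x _ rfl hx p rfl).1 (h _)
  refine (HomologicalComplex.exactAt_iff_isZero_homology _ _).1 ?_
  rw [HomologicalComplex.exactAt_iff' _ ((ComplexShape.up ℕ).prev q) q (q + 1) rfl (by simp)]
  exact (ShortComplex.ab_exact_iff _).2 hK

theorem isZero_HY (q : ℕ) (G : EtCoh.Ab X) (h : ∀ x : Ext (Q V) G q, x = 0) :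
    IsZero ((EtDual.HY V.ι q).obj G) :=
  (isZero_rightDerived_homFunctor (Q V) q G h).of_iso
    ((BigSiteLib.rightDerivedIso (gammaIso V) q).app G)

/-- degree zero -/
theorem Ext_Q_zero_eq_zero (G : EtCoh.Ab X) (h : Function.Injective (G.obj.map (toTopV V).op))
    (x : Ext (Q V) G 0) : x = 0 := by
  obtain ⟨φ, rfl⟩ := (Ext.mk₀_bijective _ _).2 x
  suffices φ = 0 by rw [this, Ext.mk₀_zero]
  refine coequalizer.hom_ext ((zuEquiv _ G).injective (h ?_))
  refine (zuEquiv_ZUmap _ _).symm.trans (Eq.trans ?_ (zuEquiv_ZUmap _ _))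
  rw [comp_zero, comp_zero, cokernel.condition_assoc, zero_comp]

/-- degree one -/
theorem Ext_Q_one_eq_zero (G : EtCoh.Ab X) (h : Function.Surjective (G.obj.map (toTopV V).op))
    (htop : ∀ y : HE G 1 (EtCoh.top X), y = 0) (x : Ext (Q V) G 1) : x = 0 := by
  obtain ⟨w, rfl⟩ := Ext.contravariant_sequence_exact₃ (shortExact_Q V) G x (htop _) (Nat.add_zero 1)
  obtain ⟨φ, rfl⟩ := (Ext.mk₀_bijective _ _).2 w
  obtain ⟨t, ht⟩ := h (zuEquiv _ G φ)
  have : φ = ZUmap (toTopV V) ≫ (zuEquiv _ G).symm t := by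
    refine (zuEquiv _ G).injective ?_
    rw [zuEquiv_ZUmap, Equiv.apply_symm_apply, ht]
  rw [this, ← Ext.mk₀_comp_mk₀]
  exact ShortComplex.ShortExact.extClass_comp_assoc _ _

/-- degrees at least two -/
theorem Ext_Q_succ_eq_zero (G : EtCoh.Ab X) (q : ℕ) (hV : ∀ y : HE G q (opU V), y = 0)
    (htop : ∀ y : HE G (q + 1) (EtCoh.top X), y = 0) (x : Ext (Q V) G (q + 1)) : x = 0 := by
  obtain ⟨w, rfl⟩ := Ext.contravariant_sequence_exact₃ (shortExact_Q V) G x (htop _) (Nat.add_comm 1 q)
  rw [hV w]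
  exact Ext.comp_zero _ _ _ _ _

end Groth.Agent.EtDual68.PuncturedLES
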