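import Groth.Agent.EtDual68.GaPunctGood
import Groth.Agent.EtDual68.PuncturedLES
import Groth.Agent.EtLC12.ArtinSchreier
import Groth.Prelude.Def_FEt

/-!
# Artin–Schreier: local cohomology of `ℤ/p` at the closed point
-/

universe u

open CategoryTheory CategoryTheory.Limits AlgebraicGeometry Opposite CategoryTheory.Abelian IsLocalRing

noncomputable section

namespace Groth.Agent.EtDual68.ASPunct

set_option backward.isDefEq.respectTransparency false
set_option backward.isDefEq.respectTransparency.types false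

open EtDerLib (ZU ZUmap zuEquiv)
open OpensMV (opU inclU inclU_unique res)
open scoped OpensMV
open GaSec GaPunct SopAlg PuncturedLES

variable {R : Type u} [CommRing R] (p : ℕ) [Fact p.Prime] [CharP R p]

local notation "Y" => Spec (CommRingCat.of R)

theorem natCast_eq_zero : (p : Γ(Spec (CommRingCat.of R), ⊤)) = 0 := by
  rw [← map_natCast (Scheme.ΓSpecIso (CommRingCat.of R)).inv.hom, CharP.cast_eq_zero R p, map_zero]

/-- `F - 1` -/
abbrev φ : EtCoh.Ga (Spec (CommRingCat.of R)) ⟶ EtCoh.Ga (Spec (CommRingCat.of R)) :=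
  EtLC12.ArtinSchreier.as p (natCast_eq_zero (R := R) p)

/-- the kernel of `F - 1` -/
abbrev K : EtCoh.Ab (Spec (CommRingCat.of R)) := kernel (φ (R := R) p)

theorem cls_comp {T : (Spec (CommRingCat.of R)).Etale} (z : Γ(T.left, ⊤)) :
    (cls z).comp (Ext.mk₀ (φ p)) (add_zero 0) = cls (z ^ p - z) := by
  rw [cls, Ext.mk₀_comp_mk₀, cls]
  refine congrArg Ext.mk₀ ((zuEquiv T _).injective ?_)
  rw [EtDerLib.zuEquiv_comp, Equiv.apply_symm_apply, Equiv.apply_symm_apply]
  rfl

theorem frac_pow_sub (f : R) (n : ℕ) (c : R) :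
    frac f n c ^ p - frac f n c = frac f (p * n) (c ^ p - c * f ^ ((p - 1) * n)) := by
  refine eq_frac ?_
  have hp : 1 ≤ p := (Fact.out : p.Prime).one_le
  have e : p * n = n + (p - 1) * n := by
    rw [Nat.sub_mul, one_mul, Nat.add_sub_cancel' (Nat.le_mul_of_pos_left n (by omega))]
  rw [sub_mul, map_sub, map_pow, map_mul, map_pow, ← frac_spec f n c]
  rw [mul_pow, ← pow_mul, mul_comm n p]
  conv_lhs => arg 2; rw [e, pow_add, ← mul_assoc]

theorem Ψ_φ (l : List R) (g a : R) (n : ℕ) (c : R) :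
    (Ψ g a l n c).comp (Ext.mk₀ (φ p)) (add_zero _) =
      Ψ g a l (p * n) (c ^ p - c * den g a l ^ ((p - 1) * n)) :=
  Ψ_comp (φ p) p (fun f n c => c ^ p - c * f ^ ((p - 1) * n))
    (fun f n c => (cls_comp p _).trans (congrArg cls (frac_pow_sub p f n c))) l g a n c

/-- roots of `X ^ p - X - r` -/
theorem exists_root [HenselianLocalRing R] [IsSepClosed (ResidueField R)] (r : R) :
    ∃ s : R, s ^ p - s = r := by
  have hp := (Fact.out : p.Prime)
  let P : Polynomial R := Polynomial.X ^ p - (Polynomial.X + Polynomial.C r)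
  have hmonic : P.Monic := Polynomial.monic_X_pow_sub (by
    refine lt_of_le_of_lt (Polynomial.degree_add_le _ _) (max_lt ?_ ?_)
    · exact lt_of_le_of_lt Polynomial.degree_X_le (by exact_mod_cast hp.one_lt)
    · exact lt_of_le_of_lt Polynomial.degree_C_le (by exact_mod_cast hp.pos))
  have hder : P.derivative = -1 := by
    simp [P, Polynomial.derivative_X_pow, CharP.cast_eq_zero R p]
  let Pb : Polynomial (ResidueField R) := P.map (residue R)
  have hsep : Pb.Separable := by
    rw [Polynomial.separable_def, Polynomial.derivative_map, hder, Polynomial.map_neg, Polynomial.map_one]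
    exact isCoprime_one_right.neg_right
  have hdeg : Pb.degree ≠ 0 := by
    rw [hmonic.degree_map (residue R)]
    have : P.natDegree = p := by
      refine Polynomial.natDegree_eq_of_degree_eq_some ?_
      rw [Polynomial.degree_sub_eq_left_of_degree_lt, Polynomial.degree_X_pow]
      rw [Polynomial.degree_X_pow]
      refine lt_of_le_of_lt (Polynomial.degree_add_le _ _) (max_lt ?_ ?_)
      · exact lt_of_le_of_lt Polynomial.degree_X_le (by exact_mod_cast hp.one_lt)
      · exact lt_of_le_of_lt Polynomial.degree_C_le (by exact_mod_cast hp.pos)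
    intro h0
    rw [Polynomial.degree_eq_natDegree hmonic.ne_zero, this] at h0
    exact hp.ne_zero (by exact_mod_cast h0)
  obtain ⟨t, ht⟩ := IsSepClosed.exists_root Pb hdeg hsep
  obtain ⟨a₀, rfl⟩ := residue_surjective t
  obtain ⟨s, hs, -⟩ := HenselianLocalRing.is_henselian P hmonic a₀
    (by rw [← residue_eq_zero_iff, ← Polynomial.eval₂_at_apply, ← Polynomial.eval_map]; exact ht)
    (by rw [hder]; simp)
  refine ⟨s, ?_⟩
  have : s ^ p - (s + r) = 0 := by simpa [P] using hs
  linear_combination this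

section Kernel

theorem ρ_top_surjective (z : Γ((EtCoh.top (Spec (CommRingCat.of R))).left, ⊤)) :
    ∃ r, ρ (EtCoh.top (Spec (CommRingCat.of R))) r = z := by
  refine ⟨(Scheme.ΓSpecIso (CommRingCat.of R)).hom.hom z, ?_⟩
  show (Scheme.Hom.appTop (𝟙 (Spec (CommRingCat.of R)))).hom _ = z
  rw [Scheme.Hom.id_appTop]
  exact (Scheme.ΓSpecIso (CommRingCat.of R)).hom_inv_id_apply z

theorem Ga_top_zero (q : ℕ) (y : HE (EtCoh.Ga Y) (q + 1) (EtCoh.top Y)) : y = 0 :=
  haveI : IsAffine (EtCoh.top (Spec (CommRingCat.of R))).left :=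
    inferInstanceAs (IsAffine (Spec (CommRingCat.of R)))
  OpensMV.eq_zero_of_isAffAcyclic q (EtCoh.Ga Y) (EtLC12.GaAmitsur.isAffAcyclic_Ga _) _ y

/-- classes in the kernel -/
theorem K_zero (q : ℕ) (T : (Spec (CommRingCat.of R)).Etale)
    (h₁ : ∀ y : HE (EtCoh.Ga Y) (q + 1) T, y.comp (Ext.mk₀ (φ p)) (add_zero _) = 0 → y = 0)
    (h₂ : ∀ w : HE (EtCoh.Ga Y) q T, ∃ w' : HE (EtCoh.Ga Y) q T, w'.comp (Ext.mk₀ (φ p)) (add_zero _) = w)
    (x : HE (K (R := R) p) (q + 1) T) : x = 0 := by
  let hS := EtLC12.ArtinSchreier.shortExact_kernel p (natCast_eq_zero (R := R) p)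
  have h0 : (x.comp (Ext.mk₀ (kernel.ι (φ p))) (add_zero (q + 1))).comp (Ext.mk₀ (φ p)) (add_zero _) = 0 := by
    rw [Ext.comp_assoc_of_second_deg_zero, Ext.mk₀_comp_mk₀, kernel.condition, Ext.mk₀_zero]
    exact Ext.comp_zero _ _ _ _ _
  obtain ⟨w, rfl⟩ := Ext.covariant_sequence_exact₁ _ hS x (h₁ _ h0) (n₀ := q) rfl
  obtain ⟨w', rfl⟩ := h₂ w
  rw [Ext.comp_assoc_of_second_deg_zero, hS.comp_extClass]
  exact Ext.comp_zero _ _ _ _ rfl

theorem cls_preimage [HenselianLocalRing R] [IsSepClosed (ResidueField R)] (T : (Spec (CommRingCat.of R)).Etale)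
    (hT : Function.Surjective (ρ T)) (w : HE (EtCoh.Ga Y) 0 T) :
    ∃ w' : HE (EtCoh.Ga Y) 0 T, w'.comp (Ext.mk₀ (φ p)) (add_zero _) = w := by
  obtain ⟨z, rfl⟩ := cls_surjective w
  obtain ⟨r, rfl⟩ := hT z
  obtain ⟨s, rfl⟩ := exists_root p r
  exact ⟨cls (ρ T s), (cls_comp p _).trans (congrArg cls (by rw [map_sub, map_pow]))⟩

theorem K_top_zero [HenselianLocalRing R] [IsSepClosed (ResidueField R)] :
    ∀ (q : ℕ) (x : HE (K (R := R) p) (q + 1) (EtCoh.top Y)), x = 0
  | 0, x => K_zero p 0 _ (fun y _ => Ga_top_zero 0 y)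
      (cls_preimage p _ ρ_top_surjective) x
  | q + 1, x => K_zero p (q + 1) _ (fun y _ => Ga_top_zero (q + 1) y)
      (fun w => ⟨0, (Ext.zero_comp _ _ _ _ (add_zero _)).trans (Ga_top_zero q w).symm⟩) x

/-- a section of the kernel is a function fixed by Frobenius -/
def val {T : (Spec (CommRingCat.of R)).Etale} (s : (K (R := R) p).obj.obj (op T)) : Γ(T.left, ⊤) :=
  ((kernel.ι (φ p)).hom.app (op T) s).down

theorem val_injective (T : (Spec (CommRingCat.of R)).Etale) : Function.Injective (val p (T := T) (R := R)) :=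
  fun _ _ h => SiteBase.sheaf_app_injective (kernel.ι (φ p)) T (ULift.down_injective h)

theorem val_pow {T : (Spec (CommRingCat.of R)).Etale} (s : (K (R := R) p).obj.obj (op T)) :
    val p s ^ p = val p s :=
  sub_eq_zero.1 (congrArg ULift.down (congrArg (fun f : K (R := R) p ⟶ _ => f.hom.app (op T) s)
    (kernel.condition (φ p))))

theorem exists_val {T : (Spec (CommRingCat.of R)).Etale} (z : Γ(T.left, ⊤)) (hz : z ^ p = z) :
    ∃ s : (K (R := R) p).obj.obj (op T), val p s = z := by
  obtain ⟨s, hs⟩ := SiteBase.exists_kernel_section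
    (ShortComplex.mk (kernel.ι (φ p)) (φ (R := R) p) (kernel.condition _)) T (up' z)
    (congrArg ULift.up (sub_eq_zero.2 hz))
  exact ⟨s, congrArg ULift.down hs⟩

theorem val_map {T T' : (Spec (CommRingCat.of R)).Etale} (a : T' ⟶ T) (s : (K (R := R) p).obj.obj (op T)) :
    val p ((K (R := R) p).obj.map a.op s) = a.left.appTop (val p s) :=
  congrArg ULift.down (NatTrans.naturality_apply (kernel.ι (φ p)).hom a.op s)

variable (U : (Spec (CommRingCat.of R)).Opens)

theorem res_K_injective (hU : Function.Injective (ρ (opU U))) :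
    Function.Injective ((K (R := R) p).obj.map (toTopV U).op) := fun s t h => by
  refine val_injective p _ ?_
  obtain ⟨r, hr⟩ := ρ_top_surjective (val p s)
  obtain ⟨r', hr'⟩ := ρ_top_surjective (val p t)
  have e := (val_map p _ s).symm.trans ((congrArg (val p) h).trans (val_map p _ t))
  rw [← hr, ← hr', ρ_nat, ρ_nat] at e
  rw [← hr, ← hr', hU e]

theorem res_K_surjective
    (hU : ∀ z : Γ((opU U).left, ⊤), z ^ p = z → ∃ r, r ^ p = r ∧ ρ (opU U) r = z) :
    Function.Surjective ((K (R := R) p).obj.map (toTopV U).op) := fun s => by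
  obtain ⟨r, hr, hrs⟩ := hU _ (val_pow p s)
  obtain ⟨t, ht⟩ := exists_val p (ρ (EtCoh.top Y) r) (by rw [← map_pow, hr])
  refine ⟨t, val_injective p _ ((val_map p _ t).trans ?_)⟩
  rw [ht, ρ_nat, hrs]

theorem isZero_HY_iff_K (i : ℕ) (h : ∀ x : Ext (Q U) (K (R := R) p) i, x = 0) :
    IsZero ((EtDual.HY U.ι i).obj (EtCoh.const (Spec (CommRingCat.of R)) (ZMod p))) :=
  (isZero_HY U i _ h).of_iso
    ((EtDual.HY U.ι i).mapIso (asIso (EtLC12.ArtinSchreier.constToKer p (natCast_eq_zero (R := R) p))))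

end Kernel

section Local

variable (a : R) (l : List R)

theorem puncturedSpec_eq [IsLocalRing R] (hrad : (Ideal.ofList (a :: l)).radical = maximalIdeal R) :
    FEt.puncturedSpec R = cov 1 a l := by
  have h : ∀ (l : List R) (a : R) (x : PrimeSpectrum R), x ∈ cov 1 a l ↔ ∃ y ∈ a :: l, y ∉ x.asIdeal := by
    intro l
    induction l with
    | nil => intro a x; rw [cov, mem_bo]; simp
    | cons b l ih => intro a x; rw [cov, TopologicalSpace.Opens.mem_sup, mem_bo, ih b x]; simp
  refine TopologicalSpace.Opens.ext (Set.ext fun (x : PrimeSpectrum R) => ?_)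
  refine Iff.trans ?_ (h l a x).symm
  show x ≠ closedPoint R ↔ _
  constructor
  · intro hx
    by_contra hall
    push Not at hall
    refine hx (PrimeSpectrum.ext (((maximalIdeal.isMaximal R).eq_of_le x.isPrime.ne_top ?_).symm))
    rw [← hrad, x.isPrime.radical_le_iff]
    exact Ideal.span_le.2 hall
  · rintro ⟨y, hy, hyx⟩ rfl
    have hm : y ∈ maximalIdeal R := hrad ▸ Ideal.le_radical (Ideal.subset_span hy)
    exact hyx hm

variable (hgood : Good (a :: l))

include hgood in
theorem ρ_cov_injective : Function.Injective (ρ (opU (cov 1 a l))) := by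
  intro r r' h
  rw [← ρ_nat (inclU (cov_le 1 a l)), ← ρ_nat (inclU (cov_le 1 a l))] at h
  have h' := res_injective l 1 a hgood h
  have h0 : ρ (opU (bo (1 : R))) (r - r') = 0 := by rw [map_sub, h', sub_self]
  obtain ⟨k, hk⟩ := exists_pow_mul_eq_zero 1 _ h0
  simpa [sub_eq_zero] using hk

include hgood in
theorem ρ_cov_surjective (hl : l ≠ []) : Function.Surjective (ρ (opU (cov 1 a l))) := fun z => by
  obtain ⟨w, rfl⟩ := res_surjective l 1 a hl hgood z
  obtain ⟨n, c, rfl⟩ := exists_frac 1 w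
  refine ⟨c, ?_⟩
  have e : ρ (opU (bo (1 : R))) c = frac 1 n c := eq_frac (by rw [map_one, one_pow, mul_one])
  rw [← ρ_nat (inclU (cov_le 1 a l)), e]

include hgood in
theorem fixed_of_ne_nil (hl : l ≠ []) (z : Γ((opU (cov 1 a l)).left, ⊤)) (hz : z ^ p = z) :
    ∃ r, r ^ p = r ∧ ρ (opU (cov 1 a l)) r = z := by
  obtain ⟨r, rfl⟩ := ρ_cov_surjective a l hgood hl z
  exact ⟨r, ρ_cov_injective a l hgood (by rw [map_pow]; exact hz), rfl⟩

variable [HenselianLocalRing R] [IsSepClosed (ResidueField R)]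

include hgood in
theorem K_cov_zero (q : ℕ) (hq : q + 1 < l.length) (x : HE (K (R := R) p) (q + 1) (opU (cov 1 a l))) :
    x = 0 := by
  refine K_zero p q _ (fun y _ => eq_zero_of_mid l 1 a q hgood hq y) (fun w => ?_) x
  cases q with
  | zero => exact cls_preimage p _ (ρ_cov_surjective a l hgood (by rintro rfl; simp at hq)) w
  | succ q => exact ⟨0, (Ext.zero_comp _ _ _ _ (add_zero _)).trans
      (eq_zero_of_mid l 1 a q hgood (by omega) w).symm⟩

include hgood in
/-- local cohomology below the depth -/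
theorem isZero_HY_lt (i : ℕ) (hi : i ≤ l.length) :
    IsZero ((EtDual.HY (cov 1 a l).ι i).obj (EtCoh.const (Spec (CommRingCat.of R)) (ZMod p))) := by
  refine isZero_HY_iff_K p _ i fun x => ?_
  match i, hi, x with
  | 0, _, x => exact Ext_Q_zero_eq_zero _ _ (res_K_injective p _ (ρ_cov_injective a l hgood)) x
  | 1, hi, x => exact Ext_Q_one_eq_zero _ _ (res_K_surjective p _
      (fixed_of_ne_nil p a l hgood (by rintro rfl; simp at hi))) (K_top_zero p 0) x
  | q + 2, hi, x =>
    exact Ext_Q_succ_eq_zero _ _ (q + 1) (K_cov_zero p a l hgood q (by omega)) (K_top_zero p (q + 1)) x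

end Local

section Top

variable [HenselianLocalRing R] [IsNoetherianRing R] (hCM : LocCoh.IsCohenMacaulayModule R R)
  (a : R) (l : List R) (hD : ringKrullDim R = ((l.length + 1 : ℕ) : WithBot ℕ∞))
  (hspan : Ideal.ofList (a :: l) = maximalIdeal R)

/-- the parameters as a family -/
abbrev fam : Fin (l.length + 1) → R := (a :: l).get

theorem range_fam : Set.range (fam a l) = {y | y ∈ a :: l} := Set.range_list_get _

omit [IsNoetherianRing R] [HenselianLocalRing R] in
theorem pw_eq_pe (n : ℕ) : pw (a :: l) n = pe (fam a l) fun _ => n := by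
  refine congrArg Ideal.span (Set.ext fun y => ?_)
  show y ∈ (a :: l).map (· ^ n) ↔ y ∈ Set.range fun i => (a :: l).get i ^ n
  rw [List.mem_map, Set.mem_range]
  constructor
  · rintro ⟨z, hz, rfl⟩
    obtain ⟨i, hi⟩ := List.mem_iff_get.1 hz
    exact ⟨i, by rw [hi]⟩
  · rintro ⟨i, rfl⟩
    exact ⟨_, List.get_mem _ _, rfl⟩

include hspan in
theorem span_fam : Ideal.span (Set.range (fam a l)) = maximalIdeal R := by
  rw [range_fam]; exact hspan

include hCM hD hspan in
/-- `F - 1` is injective in the top degree -/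
theorem frobenius_pw (n : ℕ) (c : R) (N : ℕ)
    (h : (a :: l).prod ^ N * (c ^ p - c * (a :: l).prod ^ ((p - 1) * n)) ∈ pw (a :: l) (p * n + N)) :
    c ∈ pw (a :: l) n := by
  have hx : Ideal.span (Set.range (fam a l)) = maximalIdeal R := span_fam a l hspan
  have hx' : (Ideal.span (Set.range (fam a l))).radical = maximalIdeal R := by
    rw [hx]; exact (maximalIdeal.isMaximal R).isPrime.isRadical.radical
  have hprod : (a :: l).prod = ∏ i, fam a l i := by
    rw [← List.prod_ofFn]
    exact congrArg List.prod (List.ofFn_get (a :: l)).symm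
  rw [pw_eq_pe] at h ⊢
  rw [mul_comm ((a :: l).prod ^ N), hprod, ← Finset.prod_pow _ N] at h
  have h' := colon_finset hCM (l.length + 1) hD (fam a l) rfl hx' Finset.univ (fun _ => N) (fun _ => p * n + N)
    (fun _ => Nat.le_add_left _ _) _ h
  refine frobenius_key hCM (l.length + 1) hD (fam a l) rfl hx p (Nat.succ_pos _) n c ?_
  simp only [Finset.mem_univ, if_true, Nat.add_sub_cancel] at h'
  exact h'

include hCM hD hspan in
theorem good_cons : Good (a :: l) :=
  good_of_sop hCM (l.length + 1) hD [] (a :: l) (by simp) (by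
    rw [List.nil_append, hspan]; exact (maximalIdeal.isMaximal R).isPrime.isRadical.radical)

variable [IsSepClosed (ResidueField R)]

include hCM hD hspan in
theorem Ga_top_degree_injective (b : R) (l' : List R) (hl : l = b :: l') (y : HE (EtCoh.Ga Y) l.length (opU (cov 1 a l)))
    (hy : y.comp (Ext.mk₀ (φ p)) (add_zero _) = 0) : y = 0 := by
  subst hl
  obtain ⟨n, c, rfl⟩ := Ψ_surjective' 1 a (b :: l') y
  rw [Ψ_φ, show den 1 a (b :: l') = (a :: b :: l').prod by simp [den]] at hy
  obtain ⟨N, hN⟩ := exists_mem_of_Ψ_eq_zero l' 1 a b _ _ hy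
  rw [show den 1 a (b :: l') = (a :: b :: l').prod by simp [den]] at hN
  exact Ψ_eq_zero_of_mem l' 1 a b n c (frobenius_pw p hCM a (b :: l') hD hspan n c N hN)

include hCM hD hspan in
theorem fixed_of_nil (hl : l = []) (z : Γ((opU (cov 1 a l)).left, ⊤)) (hz : z ^ p = z) :
    ∃ r, r ^ p = r ∧ ρ (opU (cov 1 a l)) r = z := by
  subst hl
  have hinj := ρ_cov_injective a [] (good_cons hCM a [] hD hspan)
  obtain ⟨n, c, rfl⟩ := exists_frac (1 * a) z
  have h0 : frac (1 * a) (p * n) (c ^ p - c * (1 * a) ^ ((p - 1) * n)) = 0 := by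
    rw [← frac_pow_sub p, hz, sub_self]
  obtain ⟨N, hN⟩ := frac_eq_zero h0
  have hm := frobenius_pw p hCM a [] hD hspan n c N (by
    rw [show (List.prod [a]) = 1 * a by simp, hN]; exact Ideal.zero_mem _)
  rw [pw_cons, pw_nil, sup_bot_eq, Ideal.mem_span_singleton'] at hm
  obtain ⟨r, rfl⟩ := hm
  have e : ρ (opU (cov 1 a [])) r = frac (1 * a) n (r * a ^ n) :=
    eq_frac (by simp only [map_mul, map_pow, map_one, one_mul]; rfl)
  exact ⟨r, hinj (by rw [map_pow, e]; exact hz), e⟩

include hCM hD hspan in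
/-- local cohomology in the top degree -/
theorem isZero_HY_top :
    IsZero ((EtDual.HY (cov 1 a l).ι (l.length + 1)).obj (EtCoh.const (Spec (CommRingCat.of R)) (ZMod p))) := by
  have hgood := good_cons hCM a l hD hspan
  refine isZero_HY_iff_K p _ _ fun x => ?_
  match l, hD, hspan, hgood, x with
  | [], hD, hspan, hgood, x =>
    exact Ext_Q_one_eq_zero _ _ (res_K_surjective p _ (fixed_of_nil p hCM a [] hD hspan rfl)) (K_top_zero p 0) x
  | b :: l', hD, hspan, hgood, x =>
    refine Ext_Q_succ_eq_zero _ _ (l'.length + 1) (fun y => K_zero p l'.length _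
      (Ga_top_degree_injective p hCM a (b :: l') hD hspan b l' rfl) (fun w => ?_) y) (K_top_zero p _) x
    match l', hgood, w with
    | [], hgood, w => exact cls_preimage p _ (ρ_cov_surjective a [b] hgood (by simp)) w
    | d :: l'', hgood, w =>
      exact ⟨0, (Ext.zero_comp _ _ _ _ (add_zero _)).trans
        (eq_zero_of_mid (b :: d :: l'') 1 a l''.length hgood (by simp) w).symm⟩

end Top

end Groth.Agent.EtDual68.ASPunct
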