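import Groth.Agent.EtDual68.ASPunct
import Groth.Agent.IntMultLib.LocalAlg
import Groth.Agent.LC.GorRows
import Groth.Agent.LC.GorHull

/-!
# Local cohomology of `ℤ/p` at the closed point in characteristic `p`
-/

universe u

open CategoryTheory CategoryTheory.Limits AlgebraicGeometry IsLocalRing

noncomputable section

namespace Groth.Agent.EtDual68.ASResult

variable (p : ℕ) [Fact p.Prime] (R : Type u) [CommRing R] [HenselianLocalRing R]
  [IsSepClosed (ResidueField R)] [CharP R p]

theorem exists_dim [IsNoetherianRing R] : ∃ d : ℕ, ringKrullDim R = d := by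
  obtain ⟨e, he⟩ := WithBot.ne_bot_iff_exists.1 (ringKrullDim_ne_bot (R := R))
  obtain ⟨n, hn⟩ := WithTop.ne_top_iff_exists.1 (show e ≠ ⊤ from fun h => ringKrullDim_ne_top (R := R) (by rw [← he, h]; rfl))
  exact ⟨n, by rw [← he, ← hn]; rfl⟩

theorem isZero_HY_of_cohenMacaulay [IsNoetherianRing R] (hCM : LocCoh.IsCohenMacaulayModule R R)
    (i : ℕ) (hi : (i : WithBot ℕ∞) < ringKrullDim R) :
    IsZero ((EtDual.HY (FEt.puncturedSpec R).ι i).obj (EtCoh.const (Spec (CommRingCat.of R)) (ZMod p))) := by
  obtain ⟨d, hd⟩ := exists_dim R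
  have hid : i < d := by rw [hd] at hi; exact_mod_cast hi
  obtain ⟨rs, hlen, hrad⟩ := IntMultLib.exists_sop R d hd
  obtain ⟨a, l, rfl⟩ : ∃ a l, rs = a :: l := List.exists_cons_of_length_pos (by omega)
  rw [ASPunct.puncturedSpec_eq a l hrad]
  exact ASPunct.isZero_HY_lt p a l (SopAlg.good_of_sop hCM d hd [] (a :: l) (by simpa using hlen) (by simpa using hrad))
    i (by simp at hlen; omega)

theorem isZero_HY_of_regular [IsRegularLocalRing R] (d : ℕ) (hd : ringKrullDim R = d) (hd0 : 0 < d)
    (i : ℕ) (hi : i ≤ d) :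
    IsZero ((EtDual.HY (FEt.puncturedSpec R).ι i).obj (EtCoh.const (Spec (CommRingCat.of R)) (ZMod p))) := by
  haveI := LC.gorenstein_of_isRegularLocalRing (R := R)
  have hCM : LocCoh.IsCohenMacaulayModule R R :=
    (LC.isCohenMacaulayLocalRing_of_gorenstein (R := R)).supportDim_eq_depth
  rcases Nat.lt_or_eq_of_le hi with h | rfl
  · exact isZero_HY_of_cohenMacaulay p R hCM i (by rw [hd]; exact_mod_cast h)
  have hfg : (maximalIdeal R).FG := IsNoetherian.noetherian _
  have hcard : (maximalIdeal R).generators.ncard = i := by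
    have h1 := IsRegularLocalRing.spanFinrank_maximalIdeal (R := R)
    rw [hd] at h1
    rw [Submodule.FG.generators_ncard hfg]
    exact_mod_cast h1
  have hfin := Submodule.FG.finite_generators hfg
  let rs := hfin.toFinset.toList
  have hlen : rs.length = i := by
    rw [Finset.length_toList, ← Set.ncard_eq_toFinset_card _ hfin, hcard]
  have hspan : Ideal.ofList rs = maximalIdeal R := by
    conv_rhs => rw [← Submodule.span_generators (maximalIdeal R)]
    exact congrArg Ideal.span (Set.ext fun x => Finset.mem_toList.trans hfin.mem_toFinset)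
  obtain ⟨a, l, e⟩ : ∃ a l, rs = a :: l := List.exists_cons_of_length_pos (by omega)
  rw [e] at hlen hspan
  rw [ASPunct.puncturedSpec_eq a l (by rw [hspan]; exact (maximalIdeal.isMaximal R).isPrime.isRadical.radical)]
  simp only [List.length_cons] at hlen
  subst hlen
  exact ASPunct.isZero_HY_top p hCM a l hd hspan

end Groth.Agent.EtDual68.ASResult
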