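import Groth.Agent.SmoothDim.Basic
import Groth.Agent.VarDim.Top

/-!
# The dimension of a smooth integral scheme over a field
-/

universe u

open CategoryTheory AlgebraicGeometry

namespace Groth.Agent.EtDual68.CurveDim

/-- an integral scheme smooth of relative dimension `n` over a field has dimension `n` -/
theorem topologicalKrullDim_eq {k : Type u} [Field k] {X : Scheme.{u}} [IsIntegral X]
    (f : X ⟶ Spec (CommRingCat.of k)) (n : ℕ) [SmoothOfRelativeDimension n f] :
    topologicalKrullDim X = n := by
  haveI := SmoothOfRelativeDimension.smooth n f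
  haveI : LocallyOfFiniteType f := inferInstance
  obtain ⟨x⟩ := (inferInstance : Nonempty X)
  obtain ⟨U, hU, V, hV, hx, e, hf⟩ :=
    SmoothOfRelativeDimension.exists_isStandardSmoothOfRelativeDimension (n := n) (f := f) x
  obtain rfl : U = ⊤ := eq_top_iff.2 fun y _ => by
    rw [Subsingleton.elim y (f.base x)]; exact e hx
  let φ : k →+* Γ(X, V) := (f.appLE ⊤ V e).hom.comp
    (Scheme.ΓSpecIso (CommRingCat.of k)).symm.commRingCatIsoToRingEquiv.toRingHom
  letI : Algebra k Γ(X, V) := φ.toAlgebra
  haveI : Algebra.IsStandardSmoothOfRelativeDimension n k Γ(X, V) :=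
    RingHom.isStandardSmoothOfRelativeDimension_respectsIso.2 _ _ hf
  haveI : Nonempty V.toScheme := ⟨⟨x, hx⟩⟩
  haveI : Nontrivial Γ(X, V) := (hV.isoSpec.hom.base (Nonempty.some inferInstance)).nontrivial
  have h1 : topologicalKrullDim V.toScheme = n := by
    rw [(Scheme.homeoOfIso hV.isoSpec).isHomeomorph.topologicalKrullDim_eq]
    exact (PrimeSpectrum.topologicalKrullDim_eq_ringKrullDim _).trans (SmoothDim.ringKrullDim_eq k Γ(X, V) n)
  haveI : IsIntegral V.toScheme := isIntegral_of_isOpenImmersion V.ι
  rw [← h1, VarDim.topologicalKrullDim_eq_deg_genericPoint f,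
    VarDim.topologicalKrullDim_eq_deg_genericPoint (V.ι ≫ f), VarDim.deg_comp f V.ι]
  congr 3
  exact (genericPoint_eq_of_isOpenImmersion V.ι).symm

end Groth.Agent.EtDual68.CurveDim
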