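import Mathlib.Algebra.Homology.DerivedCategory.Ext.ExactSequences

/-!
# Postcomposition with a multiple of the identity
-/

universe w v u

open CategoryTheory Abelian

namespace Groth.Agent.EtDual68.CurveKummer

variable {C : Type u} [Category.{v} C] [Abelian C] [HasExt.{w} C]

theorem comp_mk₀_nsmul {A B : C} {q : ℕ} (y : Ext A B q) (n : ℕ) :
    y.comp (Ext.mk₀ (n • 𝟙 B)) (add_zero q) = n • y := by
  induction n with
  | zero =>
    rw [zero_smul, zero_smul, Ext.mk₀_zero]
    exact Ext.comp_zero _ _ _ _ _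
  | succ n ih => rw [succ_nsmul, succ_nsmul, Ext.mk₀_add, Ext.comp_add, ih, Ext.comp_mk₀_id]

theorem comp_g_extClass {A : C} {S : ShortComplex C} (hS : S.ShortExact) {q : ℕ} (y : Ext A S.X₂ q) :
    (y.comp (Ext.mk₀ S.g) (add_zero q)).comp hS.extClass rfl = 0 := by
  rw [Ext.comp_assoc_of_second_deg_zero, hS.comp_extClass]
  exact Ext.comp_zero _ _ _ _ rfl

end Groth.Agent.EtDual68.CurveKummer
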