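import Groth.Prelude.Def_EtDual
import Groth.Agent.EtFound.ConstStalk
import Groth.Agent.EtFound.Stalk
import Mathlib.Data.ZMod.Basic

/-!
# `ℤ/n ⊗ G ≅ G` for abelian etale sheaves killed by `n`
-/

universe u

open CategoryTheory CategoryTheory.Limits AlgebraicGeometry Opposite TensorProduct

noncomputable section

namespace Groth.Agent.EtDual68

set_option backward.isDefEq.respectTransparency.types false

variable {X : Scheme.{u}} (n : ℕ) (G : EtCoh.Ab X)

/-- the section `1` of the constant sheaf `ℤ/n` -/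
def oneSect (W : X.Etaleᵒᵖ) : (EtCoh.const X (ZMod n)).obj.obj W :=
  (toSheafify X.smallEtaleTopology
    ((Functor.const X.Etaleᵒᵖ).obj (AddCommGrpCat.of (ULift.{u + 1} (ZMod n))))).app W (ULift.up 1)

theorem map_oneSect {W W' : X.Etaleᵒᵖ} (f : W ⟶ W') :
    (EtCoh.const X (ZMod n)).obj.map f (oneSect n W) = oneSect n W' :=
  (NatTrans.naturality_apply (toSheafify X.smallEtaleTopology
    ((Functor.const X.Etaleᵒᵖ).obj (AddCommGrpCat.of (ULift.{u + 1} (ZMod n))))) f (ULift.up 1)).symm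

/-- `g ↦ 1 ⊗ g` -/
def oneTmul : G.obj ⟶ EtDual.tensorPre (EtCoh.const X (ZMod n)) G where
  app W := AddCommGrpCat.ofHom
    (TensorProduct.mk ℤ ((EtCoh.const X (ZMod n)).obj.obj W) (G.obj.obj W) (oneSect n W)).toAddMonoidHom
  naturality W W' f := by
    ext (g : G.obj.obj W)
    change oneSect n W' ⊗ₜ[ℤ] G.obj.map f g =
      TensorProduct.map (EtDual.resLin (EtCoh.const X (ZMod n)) f) (EtDual.resLin G f) (oneSect n W ⊗ₜ[ℤ] g)
    rw [TensorProduct.map_tmul]
    change _ = (EtCoh.const X (ZMod n)).obj.map f (oneSect n W) ⊗ₜ[ℤ] G.obj.map f g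
    rw [map_oneSect]

variable {n G} {Ω : Type u} [Field Ω] [IsSepClosed Ω] (ξ : Spec (CommRingCat.of Ω) ⟶ X)

theorem exists_eq_zsmul_oneSect (W : X.Etale) (w : (Scheme.pointSmallEtale ξ).fiber.obj W)
    (a : (EtCoh.const X (ZMod n)).obj.obj (op W)) :
    ∃ m : ℤ, (Scheme.pointSmallEtale ξ).toPresheafFiber W w (EtCoh.const X (ZMod n)).obj a =
      (Scheme.pointSmallEtale ξ).toPresheafFiber W w (EtCoh.const X (ZMod n)).obj (m • oneSect n (op W)) := by
  obtain ⟨⟨b⟩, hb⟩ := (EtFound.toSheafify_const_germ_bijective ξ AddCommGrpCat.{u + 1}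
    (AddCommGrpCat.of (ULift.{u + 1} (ZMod n))) W w).2
    ((Scheme.pointSmallEtale ξ).toPresheafFiber W w (EtCoh.const X (ZMod n)).obj a)
  obtain ⟨m, rfl⟩ := ZMod.intCast_surjective b
  refine ⟨m, hb.symm.trans (congrArg _ ?_)⟩
  refine Eq.trans (congrArg _ (?_ : (ULift.up (m : ZMod n) : ULift.{u + 1} (ZMod n)) = m • ULift.up 1))
    (map_zsmul (ConcreteCategory.hom ((toSheafify X.smallEtaleTopology ((Functor.const X.Etaleᵒᵖ).obj
      (AddCommGrpCat.of (ULift.{u + 1} (ZMod n))))).app (op W))) m (ULift.up (1 : ZMod n)))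
  exact ULift.ext _ _ (by simp)

theorem fiber_oneTmul_surjective :
    Function.Surjective ((Scheme.pointSmallEtale ξ).presheafFiber.map (oneTmul n G)) := by
  intro p
  obtain ⟨W, w, t, rfl⟩ := (Scheme.pointSmallEtale ξ).toPresheafFiber_jointly_surjective p
  induction t using TensorProduct.induction_on with
  | zero => exact ⟨0, (map_zero _).trans (map_zero _).symm⟩
  | tmul a g =>
    obtain ⟨m, hm⟩ := exists_eq_zsmul_oneSect ξ W w a
    obtain ⟨V, f, v, hv, hf⟩ := ((Scheme.pointSmallEtale ξ).toPresheafFiber_eq_iff' _ _ _ _).1 hm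
    refine ⟨(Scheme.pointSmallEtale ξ).toPresheafFiber V v G.obj (m • G.obj.map f.op g), ?_⟩
    subst hv
    refine ((Scheme.pointSmallEtale ξ).toPresheafFiber_naturality_apply _ _ _ _).trans (Eq.trans (congrArg _ ?_)
      ((Scheme.pointSmallEtale ξ).toPresheafFiber_w_apply f v (EtDual.tensorPre (EtCoh.const X (ZMod n)) G) _))
    change oneSect n (op V) ⊗ₜ[ℤ] (m • G.obj.map f.op g) =
      ((EtCoh.const X (ZMod n)).obj.map f.op a) ⊗ₜ[ℤ] G.obj.map f.op g
    rw [hf, map_zsmul, map_oneSect, TensorProduct.smul_tmul]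
  | add x y hx hy =>
    obtain ⟨a, ha⟩ := hx
    obtain ⟨b, hb⟩ := hy
    exact ⟨a + b, (map_add _ _ _).trans ((congrArg₂ (· + ·) ha hb).trans (map_add _ _ _).symm)⟩

theorem stalk_killedBy (hG : EtCoh.KilledBy n G) (s : (EtCoh.stalk ξ).obj G) :
    n • s = 0 := by
  obtain ⟨W, w, t, rfl⟩ := (Scheme.pointSmallEtale ξ).toPresheafFiber_jointly_surjective s
  exact (map_nsmul ((Scheme.pointSmallEtale ξ).toPresheafFiber W w G.obj).hom n t).symm.trans
    ((congrArg _ (hG W t)).trans (map_zero _))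

/-- the value at `ξ` of a section of the constant sheaf -/
def constVal (W : X.Etale) (w : (Scheme.pointSmallEtale ξ).fiber.obj W) :
    (EtCoh.const X (ZMod n)).obj.obj (op W) →+ ZMod n :=
  AddEquiv.ulift.{0, u + 1}.toAddMonoidHom.comp
    ((AddEquiv.ofBijective
      (((toSheafify X.smallEtaleTopology ((Functor.const X.Etaleᵒᵖ).obj
        (AddCommGrpCat.of (ULift.{u + 1} (ZMod n))))).app (op W) ≫
        (Scheme.pointSmallEtale ξ).toPresheafFiber W w _).hom)
      (EtFound.toSheafify_const_germ_bijective ξ AddCommGrpCat.{u + 1} _ W w)).symm.toAddMonoidHom.comp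
      ((Scheme.pointSmallEtale ξ).toPresheafFiber W w (EtCoh.const X (ZMod n)).obj).hom)

theorem constVal_oneSect (W : X.Etale) (w : (Scheme.pointSmallEtale ξ).fiber.obj W) :
    constVal ξ W w (oneSect n (op W)) = 1 := by
  refine congrArg ULift.down (?_ : _ = ULift.up (1 : ZMod n))
  exact AddEquiv.symm_apply_apply (AddEquiv.ofBijective
      (((toSheafify X.smallEtaleTopology ((Functor.const X.Etaleᵒᵖ).obj
        (AddCommGrpCat.of (ULift.{u + 1} (ZMod n))))).app (op W) ≫
        (Scheme.pointSmallEtale ξ).toPresheafFiber W w _).hom)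
      (EtFound.toSheafify_const_germ_bijective ξ AddCommGrpCat.{u + 1} _ W w)) (ULift.up (1 : ZMod n))

theorem constVal_map {W V : X.Etale} (f : V ⟶ W) (v : (Scheme.pointSmallEtale ξ).fiber.obj V)
    (a : (EtCoh.const X (ZMod n)).obj.obj (op W)) :
    constVal ξ V v ((EtCoh.const X (ZMod n)).obj.map f.op a) =
      constVal ξ W ((Scheme.pointSmallEtale ξ).fiber.map f v) a := by
  obtain ⟨m, hm⟩ := exists_eq_zsmul_oneSect ξ W ((Scheme.pointSmallEtale ξ).fiber.map f v) a
  have h1 : constVal ξ W ((Scheme.pointSmallEtale ξ).fiber.map f v) a =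
      constVal ξ W ((Scheme.pointSmallEtale ξ).fiber.map f v) (m • oneSect n (op W)) :=
    congrArg (fun t => ULift.down ((AddEquiv.ofBijective
      (((toSheafify X.smallEtaleTopology ((Functor.const X.Etaleᵒᵖ).obj
        (AddCommGrpCat.of (ULift.{u + 1} (ZMod n))))).app (op W) ≫
        (Scheme.pointSmallEtale ξ).toPresheafFiber W _ _).hom)
      (EtFound.toSheafify_const_germ_bijective ξ AddCommGrpCat.{u + 1} _ W _)).symm t)) hm
  have h2 : constVal ξ V v ((EtCoh.const X (ZMod n)).obj.map f.op a) =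
      constVal ξ V v (m • oneSect n (op V)) := by
    refine congrArg (fun t => ULift.down ((AddEquiv.ofBijective
      (((toSheafify X.smallEtaleTopology ((Functor.const X.Etaleᵒᵖ).obj
        (AddCommGrpCat.of (ULift.{u + 1} (ZMod n))))).app (op V) ≫
        (Scheme.pointSmallEtale ξ).toPresheafFiber V v _).hom)
      (EtFound.toSheafify_const_germ_bijective ξ AddCommGrpCat.{u + 1} _ V v)).symm t)) ?_
    refine ((Scheme.pointSmallEtale ξ).toPresheafFiber_w_apply f v _ a).trans (hm.trans ?_)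
    refine ((Scheme.pointSmallEtale ξ).toPresheafFiber_w_apply f v _ _).symm.trans (congrArg _ ?_)
    rw [map_zsmul, map_oneSect]
  rw [h1, h2, map_zsmul, map_zsmul, constVal_oneSect, constVal_oneSect]

variable (hG : EtCoh.KilledBy n G)

/-- the action of `ℤ/n` on a stalk killed by `n` -/
def zmodAct : ZMod n →+ ((EtCoh.stalk ξ).obj G →+
    (EtCoh.stalk ξ).obj G) :=
  ZMod.lift n ⟨zmultiplesHom _ (AddMonoidHom.id _), by
    ext s
    simp [stalk_killedBy ξ hG s]⟩

/-- evaluation `const(W) ⊗ G(W) → G_ξ` -/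
def tensorEval (W : X.Etale) (w : (Scheme.pointSmallEtale ξ).fiber.obj W) :
    (EtDual.tensorPre (EtCoh.const X (ZMod n)) G).obj (op W) ⟶ (EtCoh.stalk ξ).obj G :=
  AddCommGrpCat.ofHom (TensorProduct.liftAddHom
    (((AddMonoidHom.compHom' ((Scheme.pointSmallEtale ξ).toPresheafFiber W w G.obj).hom).comp
      ((zmodAct ξ hG).comp (constVal ξ W w))))
    (fun r a g => by simp [map_zsmul]))

theorem tensorEval_tmul (W : X.Etale) (w : (Scheme.pointSmallEtale ξ).fiber.obj W)
    (a : (EtCoh.const X (ZMod n)).obj.obj (op W)) (g : G.obj.obj (op W)) :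
    tensorEval ξ hG W w (a ⊗ₜ[ℤ] g) =
      zmodAct ξ hG (constVal ξ W w a) ((Scheme.pointSmallEtale ξ).toPresheafFiber W w G.obj g) := rfl

theorem tensorEval_w {W V : X.Etale} (f : V ⟶ W) (v : (Scheme.pointSmallEtale ξ).fiber.obj V) :
    (EtDual.tensorPre (EtCoh.const X (ZMod n)) G).map f.op ≫ tensorEval ξ hG V v =
      tensorEval ξ hG W ((Scheme.pointSmallEtale ξ).fiber.map f v) := by
  refine AddCommGrpCat.hom_ext (AddMonoidHom.ext fun t => ?_)
  induction t using TensorProduct.induction_on with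
  | zero => exact (map_zero _).trans (map_zero _).symm
  | tmul a g =>
    change tensorEval ξ hG V v (((EtCoh.const X (ZMod n)).obj.map f.op a) ⊗ₜ[ℤ] G.obj.map f.op g) = _
    rw [tensorEval_tmul, constVal_map]
    refine (congrArg _ ((Scheme.pointSmallEtale ξ).toPresheafFiber_w_apply f v G.obj g)).trans ?_
    exact (tensorEval_tmul ξ hG W _ a g).symm
  | add x y hx hy => exact (map_add _ x y).trans ((congrArg₂ (· + ·) hx hy).trans (map_add _ x y).symm)

include hG in
theorem fiber_oneTmul_injective :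
    Function.Injective ((Scheme.pointSmallEtale ξ).presheafFiber.map (oneTmul n G)) := by
  let ψ := (Scheme.pointSmallEtale ξ).presheafFiberDesc (P := EtDual.tensorPre (EtCoh.const X (ZMod n)) G)
    (fun W w => tensorEval ξ hG W w) (fun {W V} f v => tensorEval_w ξ hG f v)
  have h : (Scheme.pointSmallEtale ξ).presheafFiber.map (oneTmul n G) ≫ ψ = 𝟙 _ := by
    refine (Scheme.pointSmallEtale ξ).presheafFiber_hom_ext fun W w => ?_
    refine (Category.assoc _ _ _).symm.trans ((congrArg (· ≫ ψ)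
      ((Scheme.pointSmallEtale ξ).toPresheafFiber_naturality (oneTmul n G) W w)).trans
      ((Category.assoc _ _ _).trans ((congrArg (_ ≫ ·)
        ((Scheme.pointSmallEtale ξ).toPresheafFiber_presheafFiberDesc
          (P := EtDual.tensorPre (EtCoh.const X (ZMod n)) G)
          (fun W w => tensorEval ξ hG W w) (fun {W V} f v => tensorEval_w ξ hG f v) W w)).trans
        (Eq.trans ?_ (Category.comp_id _).symm))))
    refine AddCommGrpCat.hom_ext (AddMonoidHom.ext fun (g : G.obj.obj (op W)) => ?_)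
    change tensorEval ξ hG W w (oneSect n (op W) ⊗ₜ[ℤ] g) = _
    rw [tensorEval_tmul, constVal_oneSect, ← Int.cast_one, zmodAct, ZMod.lift_coe]
    simp
    rfl
  exact Function.LeftInverse.injective (g := ψ) fun s =>
    (ConcreteCategory.comp_apply _ _ s).symm.trans (ConcreteCategory.congr_hom h s)

include hG in
/-- `ℤ/n ⊗ G ≅ G` when `n` kills `G` -/
theorem nonempty_tensor_const_iso :
    Nonempty (EtDual.tensorAb (EtCoh.const X (ZMod n)) G ≅ G) := by
  let θ : G ⟶ EtDual.tensorAb (EtCoh.const X (ZMod n)) G :=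
    ⟨oneTmul n G ≫ toSheafify X.smallEtaleTopology _⟩
  have : IsIso θ := (EtFound.isIso_iff_stalks θ).2 fun Ω _ _ ξ => by
    have h1 : IsIso ((Scheme.pointSmallEtale ξ).presheafFiber.map (oneTmul n G)) :=
      (ConcreteCategory.isIso_iff_bijective _).2
        ⟨fiber_oneTmul_injective ξ hG, fiber_oneTmul_surjective ξ⟩
    have h2 : IsIso ((Scheme.pointSmallEtale ξ).presheafFiber.map
        (toSheafify X.smallEtaleTopology (EtDual.tensorPre (EtCoh.const X (ZMod n)) G))) :=
      (Scheme.pointSmallEtale ξ).W_isInvertedBy_presheafFiber' _ (GrothendieckTopology.W_toSheafify _ _)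
    change IsIso ((Scheme.pointSmallEtale ξ).presheafFiber.map
      (oneTmul n G ≫ toSheafify X.smallEtaleTopology _))
    rw [Functor.map_comp]
    exact IsIso.comp_isIso
  exact ⟨(asIso θ).symm⟩

theorem killedBy_const (X : Scheme.{u}) (n : ℕ) : EtCoh.KilledBy n (EtCoh.const X (ZMod n)) := by
  intro W s
  have h : n • 𝟙 (EtCoh.const X (ZMod n)) = 0 := by
    rw [← (constantSheaf X.smallEtaleTopology AddCommGrpCat.{u + 1}).map_id, ← Functor.map_nsmul]
    have : n • 𝟙 (AddCommGrpCat.of (ULift.{u + 1} (ZMod n))) = 0 := by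
      refine AddCommGrpCat.hom_ext (AddMonoidHom.ext fun a => ULift.ext _ _ ?_)
      simp
    rw [this, Functor.map_zero]
  let Ev : (EtCoh.const X (ZMod n) ⟶ EtCoh.const X (ZMod n)) →+ (EtCoh.const X (ZMod n)).obj.obj (op W) :=
    AddMonoidHom.mk' (fun ψ => (ψ.hom.app (op W)).hom s) (fun _ _ => rfl)
  have h' := congrArg Ev h
  rwa [map_nsmul, map_zero] at h'

end Groth.Agent.EtDual68
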