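import Groth.Agent.EtDual68.SuppHom
import Groth.Agent.EtDual68.EtaleRestr
import Groth.Agent.SiteBase.DerivedPrecomp
import Groth.Agent.BigSiteLib.Along

/-!
# Etale excision for local cohomology
-/

universe u

open CategoryTheory CategoryTheory.Limits AlgebraicGeometry Opposite

noncomputable section

namespace Groth.Agent.EtDual68

set_option backward.isDefEq.respectTransparency.types false

variable {X X' U U' : Scheme.{u}} (f : X' ⟶ X) (j : U ⟶ X) [IsOpenImmersion j]
  (j' : U' ⟶ X') [IsOpenImmersion j'] (hU' : Set.range j'.base = f.base ⁻¹' Set.range j.base)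

omit [IsOpenImmersion j'] in
include hU' in
theorem isZero_pull_pull_QSupp : IsZero ((EtCoh.pull j').obj ((EtCoh.pull f).obj (QSupp j))) := by
  refine (EtFound.isZero_iff_stalks _).2 fun Ω _ _ z => ?_
  refine IsZero.of_iso ?_ ((EtFound.stalkPullIso j' z).app _)
  refine IsZero.of_iso (isZero_stalk_QSupp j ((z ≫ j') ≫ f) ?_) ((EtFound.stalkPullIso f (z ≫ j')).app _)
  have h : (z ≫ j').base default ∈ Set.range j'.base := ⟨_, (Scheme.Hom.comp_apply _ _ _).symm⟩
  rw [hU'] at h
  simpa using h

include hU' in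
theorem shriekZTo_comp_pullConst :
    EtMVLib.shriekZTo j' ≫ (EtCore.pullConst f ℤ).inv ≫ (EtCoh.pull f).map (QSuppπ j) = 0 :=
  ((EtMVLib.shriekAdj j').homEquiv _ _).injective
    ((isZero_pull_pull_QSupp f j j' hU').eq_of_tgt _ _)

/-- comparison of `QSupp` with the inverse image -/
def QSuppPullMap : QSupp j' ⟶ (EtCoh.pull f).obj (QSupp j) :=
  cokernel.desc _ ((EtCore.pullConst f ℤ).inv ≫ (EtCoh.pull f).map (QSuppπ j))
    (shriekZTo_comp_pullConst f j j' hU')

theorem QSuppπ_QSuppPullMap : QSuppπ j' ≫ QSuppPullMap f j j' hU' =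
    (EtCore.pullConst f ℤ).inv ≫ (EtCoh.pull f).map (QSuppπ j) := cokernel.π_desc _ _ _

theorem isIso_QSuppPullMap : IsIso (QSuppPullMap f j j' hU') := by
  refine (EtFound.isIso_iff_stalks _).2 fun Ω _ _ z => ?_
  by_cases hz : z.base (default : Spec (CommRingCat.of Ω)) ∈ Set.range j'.base
  · refine (isZero_stalk_QSupp j' z hz).isIso ?_ _
    refine IsZero.of_iso (isZero_stalk_QSupp j (z ≫ f) ?_) ((EtFound.stalkPullIso f z).app _)
    rw [hU'] at hz
    simpa using hz
  · have h1 := isIso_stalk_QSuppπ j' z hz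
    have h2 : IsIso ((EtCoh.stalk z).map ((EtCoh.pull f).map (QSuppπ j))) := by
      have := isIso_stalk_QSuppπ j (z ≫ f) (by
        intro h
        apply hz
        rw [hU']
        simpa using h)
      exact (NatIso.isIso_map_iff (EtFound.stalkPullIso f z) (QSuppπ j)).2 this
    have h3 := congrArg (EtCoh.stalk z).map (QSuppπ_QSuppPullMap f j j' hU')
    rw [Functor.map_comp, Functor.map_comp] at h3
    exact @IsIso.of_isIso_fac_left _ _ _ _ _ _ _ _ h1 inferInstance h3

variable [AlgebraicGeometry.Etale f] [EtShriek.JCont f]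

include hU' in
theorem isIso_counit_QSupp
    (hZ : Set.BijOn f.base (Set.range j'.base)ᶜ (Set.range j.base)ᶜ)
    (hκ : ∀ x' : ↥X', x' ∉ Set.range j'.base → Function.Surjective (f.residueFieldMap x')) :
    IsIso ((EtShriek.extZeroAdj f).counit.app (QSupp j)) := by
  refine (EtFound.isIso_iff_stalks _).2 fun Ω _ _ ξ => ?_
  by_cases hξ : ξ.base (default : Spec (CommRingCat.of Ω)) ∈ Set.range j.base
  · refine IsZero.isIso ?_ (isZero_stalk_QSupp j ξ hξ) _
    rw [IsZero.iff_id_eq_zero]
    refine Cofan.IsColimit.hom_ext (EtFound.extZeroCofanIsColimit f ξ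
      ((EtShriek.restrAlong f).obj (QSupp j))) _ _ fun z => IsZero.eq_of_src ?_ _ _
    refine IsZero.of_iso (isZero_stalk_QSupp j (z.1 ≫ f) (by rw [z.2]; exact hξ))
      (@asIso _ _ _ _ (EtFound.restrStalkMap f z.1 (QSupp j))
        ((ConcreteCategory.isIso_iff_bijective _).2 (restrStalkMap_bijective f z.1 _)))
  · obtain ⟨x', hx', hfx⟩ := hZ.surjOn hξ
    have hb : IsIso (f.residueFieldMap x') :=
      (ConcreteCategory.isIso_iff_bijective _).2 ⟨RingHom.injective _, hκ x' hx'⟩
    obtain ⟨z, hzξ⟩ : ∃ z : Spec (CommRingCat.of Ω) ⟶ X', z ≫ f = ξ := by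
      let e := (Scheme.SpecToEquivOfField Ω X).toFun ξ
      have he : (Scheme.SpecToEquivOfField Ω X).symm e = ξ := Equiv.symm_apply_apply _ _
      have hpt : e.1 = f x' := by
        rw [hfx]
        show ξ (IsLocalRing.closedPoint Ω) = ξ default
        exact congrArg _ (Subsingleton.elim (α := PrimeSpectrum Ω) _ _)
      refine ⟨Spec.map (inv (f.residueFieldMap x') ≫ (X.residueFieldCongr hpt).inv ≫ e.2) ≫
        X'.fromSpecResidueField x', ?_⟩
      refine Eq.trans ?_ he
      rw [Category.assoc, ← f.SpecMap_residueFieldMap_fromSpecResidueField, ← Spec.map_comp_assoc,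
        IsIso.hom_inv_id_assoc, Spec.map_comp, Category.assoc]
      congr 1
      rw [← Scheme.residueFieldCongr_fromSpecResidueField hpt, ← Spec.map_comp_assoc]
      simp
    subst hzξ
    have hu : ∀ z' : Spec (CommRingCat.of Ω) ⟶ X', z' ≫ f = z ≫ f → z' = z := by
      intro z' h
      have hmem : ∀ w : Spec (CommRingCat.of Ω) ⟶ X', w ≫ f = z ≫ f →
          w (IsLocalRing.closedPoint Ω) = x' := by
        intro w hw
        have h1 : f (w (IsLocalRing.closedPoint Ω)) = f x' := by
          rw [hfx, ← Scheme.Hom.comp_apply, hw]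
          exact congrArg _ (Subsingleton.elim (α := PrimeSpectrum Ω) _ _)
        refine hZ.injOn ?_ hx' h1
        intro hw'
        rw [hU'] at hw'
        have hw'' : f (w (IsLocalRing.closedPoint Ω)) ∈ Set.range j.base := hw'
        rw [h1, hfx] at hw''
        exact hξ hw''
      have hp : ∀ w : Spec (CommRingCat.of Ω) ⟶ X', w ≫ f = z ≫ f →
          ∃ a : X'.residueField x' ⟶ CommRingCat.of Ω, Spec.map a ≫ X'.fromSpecResidueField x' = w := by
        intro w hw
        let e := (Scheme.SpecToEquivOfField Ω X').toFun w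
        have he : Spec.map e.2 ≫ X'.fromSpecResidueField e.1 = w :=
          Equiv.symm_apply_apply (Scheme.SpecToEquivOfField Ω X') w
        have hx : e.1 = x' := hmem w hw
        exact ⟨(X'.residueFieldCongr hx).inv ≫ e.2, by
          refine Eq.trans ?_ he
          rw [Spec.map_comp, Category.assoc]
          congr 1
          rw [← Scheme.residueFieldCongr_fromSpecResidueField hx, ← Spec.map_comp_assoc]
          simp⟩
      obtain ⟨a, rfl⟩ := hp z' h
      obtain ⟨b, rfl⟩ := hp z rfl
      have : a = b := by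
        have hc := h
        rw [Category.assoc, Category.assoc, ← f.SpecMap_residueFieldMap_fromSpecResidueField,
          ← Spec.map_comp_assoc, ← Spec.map_comp_assoc] at hc
        have := (cancel_mono (X.fromSpecResidueField (f x'))).1 hc
        exact (cancel_epi (f.residueFieldMap x')).1 (Spec.map_injective this)
      rw [this]
    exact isIso_counit_stalk_of_unique f z hu _

include hU' in
theorem nonempty_HY_iso_of_excision
    (hZ : Set.BijOn f.base (Set.range j'.base)ᶜ (Set.range j.base)ᶜ)
    (hκ : ∀ x' : ↥X', x' ∉ Set.range j'.base → Function.Surjective (f.residueFieldMap x'))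
    (F : EtCoh.Ab X) (r : ℕ) :
    Nonempty ((EtDual.HY j r).obj F ≅ (EtDual.HY j' r).obj ((EtCoh.pull f).obj F)) := by
  have := (pull_exact f).1
  have := (pull_exact f).2
  have := pullEt_preservesInjectiveObjects f
  have := isIso_QSuppPullMap f j j' hU'
  have := isIso_counit_QSupp f j j' hU' hZ hκ
  have := (shriekAdjEt f).left_adjoint_additive
  let e₁ : (EtShriek.extZero f).obj (QSupp j') ≅ QSupp j :=
    (EtShriek.extZero f).mapIso (asIso (QSuppPullMap f j j' hU') ≪≫
      ((restrIsoPullEt f).app (QSupp j)).symm) ≪≫ asIso ((EtShriek.extZeroAdj f).counit.app (QSupp j))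
  let e₂ : homFunctor (QSupp j) ≅ EtCoh.pull f ⋙ homFunctor (QSupp j') :=
    preadditiveCoyoneda.mapIso e₁.op ≪≫
      NatIso.ofComponents (fun G => AddEquiv.toAddCommGrpIso
        (show ((EtShriek.extZero f).obj (QSupp j') ⟶ G) ≃+ (QSupp j' ⟶ (EtCoh.pull f).obj G) from
          (shriekAdjEt f).homAddEquiv _ _))
        (fun {G G'} φ => by
          ext (a : (EtShriek.extZero f).obj (QSupp j') ⟶ G)
          exact (shriekAdjEt f).homEquiv_naturality_right a φ)
  let e : EtDual.gammaSupp j ≅ EtCoh.pull f ⋙ EtDual.gammaSupp j' :=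
    gammaSuppIso j ≪≫ e₂ ≪≫ Functor.isoWhiskerLeft _ (gammaSuppIso j').symm
  exact ⟨(BigSiteLib.rightDerivedIso e r).app F ≪≫
    (SiteBase.rightDerivedPrecompIso (EtCoh.pull f) (EtDual.gammaSupp j') r).app F⟩

end Groth.Agent.EtDual68
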