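import Groth.Agent.LC.Sop
import Mathlib.Algebra.CharP.Frobenius
import Mathlib.RingTheory.Noetherian.Basic

/-!
# Powers of systems of parameters; the socle and the Frobenius
-/

universe u

open IsLocalRing RingTheory.Sequence

namespace Groth.Agent.EtDual68.SopAlg

variable {R : Type u} [CommRing R] [IsLocalRing R] [IsNoetherianRing R]

/-- powers of a list of elements -/
def pw (l : List R) (m : ℕ) : Ideal R := Ideal.ofList (l.map (· ^ m))

/-- each element is regular modulo the powers of those after it -/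
def Good : List R → Prop
  | [] => True
  | a :: l => (∀ (m : ℕ) (c : R), c * a ∈ pw l m → c ∈ pw l m) ∧ Good l

theorem radical_eq_of_le_of_pow_mem {J : Ideal R} (hJ : J ≤ maximalIdeal R) (xs : List R)
    (hxs : (Ideal.ofList xs).radical = maximalIdeal R) (h : ∀ x ∈ xs, x ∈ J.radical) :
    J.radical = maximalIdeal R :=
  le_antisymm ((maximalIdeal.isMaximal R).isPrime.radical_le_iff.2 hJ)
    (hxs ▸ (Ideal.radical_le_radical_iff.2 (Ideal.span_le.2 h)))

variable (hCM : LocCoh.IsCohenMacaulayModule R R) (D : ℕ) (hD : ringKrullDim R = D)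

include hCM hD in
theorem regular_mod_pw (pre l : List R) (a : R) (hlen : (pre ++ a :: l).length = D)
    (hrad : (Ideal.ofList (pre ++ a :: l)).radical = maximalIdeal R) (m : ℕ) (c : R) (hc : c * a ∈ pw l m) :
    c ∈ pw l m := by
  suffices key : ∀ (m : ℕ) (c : R), c * a ∈ pw l (m + 1) → c ∈ pw l (m + 1) by
    cases m with
    | zero =>
      cases l with
      | cons b l =>
        have : (1 : R) ∈ pw (b :: l) 0 := Ideal.subset_span (by simp)
        rw [(Ideal.eq_top_iff_one _).2 this]; trivial
      | nil => simpa [pw] using key 0 c (by simpa [pw] using hc)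
    | succ m => exact key m c hc
  clear hc c m
  intro m c hc
  let rs : List R := l.map (· ^ (m + 1)) ++ (a :: pre)
  have hmem : ∀ x ∈ pre ++ a :: l, x ∈ maximalIdeal R := fun x hx => hrad ▸ Ideal.le_radical (Ideal.subset_span hx)
  have hrs : (Ideal.ofList rs).radical = maximalIdeal R := by
    refine radical_eq_of_le_of_pow_mem (Ideal.span_le.2 fun x hx => ?_) _ hrad fun x hx => ?_
    · rcases List.mem_append.1 hx with h | h
      · obtain ⟨y, hy, rfl⟩ := List.mem_map.1 h
        exact Ideal.pow_mem_of_mem _ (hmem y (by simp [hy])) _ (Nat.succ_pos m)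
      · refine hmem x ?_
        rcases List.mem_cons.1 h with rfl | h <;> simp [*]
    · rcases List.mem_append.1 hx with h | h
      · exact Ideal.le_radical (Ideal.subset_span (by simp [rs, h]))
      · rcases List.mem_cons.1 h with rfl | h
        · exact Ideal.le_radical (Ideal.subset_span (by simp [rs]))
        · exact ⟨m + 1, Ideal.subset_span (List.mem_append_left _ (List.mem_map.2 ⟨x, h, rfl⟩))⟩
  have h := LC.isWeaklyRegular_of_sop hCM D hD rs (by
    rw [← hlen]; simp [rs]; omega) hrs
  rw [isWeaklyRegular_append_iff, isWeaklyRegular_cons_iff] at h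
  have hreg := h.2.1
  have he : (Ideal.ofList (l.map (· ^ (m + 1))) • ⊤ : Submodule R R) = pw l (m + 1) := by
    rw [smul_eq_mul, Ideal.mul_top]; rfl
  have h1 : Submodule.Quotient.mk (p := (Ideal.ofList (l.map (· ^ (m + 1))) • ⊤ : Submodule R R)) c = 0 := by
    refine hreg ?_
    show a • Submodule.Quotient.mk c = a • (0 : R ⧸ (Ideal.ofList (l.map (· ^ (m + 1))) • ⊤ : Submodule R R))
    rw [smul_zero, ← Submodule.Quotient.mk_smul, Submodule.Quotient.mk_eq_zero, he, smul_eq_mul, mul_comm]
    exact hc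
  rw [Submodule.Quotient.mk_eq_zero, he] at h1
  exact h1

include hCM hD in
theorem good_of_sop (pre l : List R) (hlen : (pre ++ l).length = D)
    (hrad : (Ideal.ofList (pre ++ l)).radical = maximalIdeal R) : Good l := by
  induction l generalizing pre with
  | nil => trivial
  | cons a l ih =>
    refine ⟨fun m c hc => regular_mod_pw hCM D hD pre l a hlen hrad m c hc, ih (pre ++ [a]) ?_ ?_⟩
    · rwa [List.append_assoc]
    · rwa [List.append_assoc]

section Fin

variable {d : ℕ} (x : Fin d → R)

/-- powers with given exponents -/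
def pe (e : Fin d → ℕ) : Ideal R := Ideal.span (Set.range fun i => x i ^ e i)

omit [IsLocalRing R] [IsNoetherianRing R] in
theorem mem_pe (e : Fin d → ℕ) (i : Fin d) (c : R) {k : ℕ} (hk : e i ≤ k) : c * x i ^ k ∈ pe x e := by
  refine Ideal.mul_mem_left _ _ ?_
  rw [← Nat.sub_add_cancel hk, pow_add]
  exact Ideal.mul_mem_left _ _ (Ideal.subset_span ⟨i, rfl⟩)

omit [IsLocalRing R] [IsNoetherianRing R] in
theorem pe_mono {e e' : Fin d → ℕ} (h : ∀ i, e' i ≤ e i) : pe x e ≤ pe x e' :=
  Ideal.span_le.2 <| by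
    rintro _ ⟨i, rfl⟩
    simpa using mem_pe x e' i 1 (h i)

variable (hd : d = D) (hx : (Ideal.span (Set.range x)).radical = maximalIdeal R)

include hCM hD hd hx in
/-- colon ideals of powers -/
theorem colon (e : Fin d → ℕ) (i : Fin d) (k : ℕ) (hk : k ≤ e i) (c : R)
    (hc : c * x i ^ k ∈ pe x e) : c ∈ pe x (Function.update e i (e i - k)) := by
  classical
  rcases Nat.eq_zero_or_pos k with rfl | hk0
  · simpa using hc
  by_cases he : ∃ j, j ≠ i ∧ e j = 0
  · obtain ⟨j, hj, hej⟩ := he
    simpa using mem_pe x (Function.update e i (e i - k)) j c (k := 0) (by simp [Function.update_of_ne hj, hej])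
  push Not at he
  let l : List R := (List.finRange d).filterMap fun j => if j = i then none else some (x j ^ e j)
  have hl : ∀ z, z ∈ l ↔ ∃ j, j ≠ i ∧ x j ^ e j = z := fun z => by
    simp only [l, List.mem_filterMap, List.mem_finRange, true_and]
    refine exists_congr fun j => ?_
    by_cases h : j = i <;> simp [h]
  have hlen : l.length + 1 = D := by
    have h1 : l.length = ((List.finRange d).filter fun j => decide (j ≠ i)).length := by
      simp only [l]
      generalize List.finRange d = L
      induction L with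
      | nil => simp
      | cons j L ih => by_cases h : j = i <;> simp [h, ih]
    have h2 : ((List.finRange d).filter fun j => decide (j ≠ i)).length = d - 1 := by
      rw [← List.toFinset_card_of_nodup ((List.nodup_finRange d).filter _)]
      rw [List.toFinset_filter]
      simp [Finset.filter_ne']
    have := i.pos
    omega
  have hrad : (Ideal.ofList l ⊔ Ideal.span {x i ^ k}).radical = maximalIdeal R := by
    have hmem : ∀ j, x j ∈ maximalIdeal R := fun j => hx ▸ Ideal.le_radical (Ideal.subset_span ⟨j, rfl⟩)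
    refine radical_eq_of_le_of_pow_mem (sup_le (Ideal.span_le.2 fun z hz => ?_) ?_) (List.ofFn x) ?_ fun z hz => ?_
    · obtain ⟨j, hj, rfl⟩ := (hl z).1 hz
      exact Ideal.pow_mem_of_mem _ (hmem j) _ (Nat.pos_of_ne_zero (he j hj))
    · rw [Ideal.span_le, Set.singleton_subset_iff]
      exact Ideal.pow_mem_of_mem _ (hmem i) _ hk0
    · rw [← hx]; congr 1; rw [Ideal.ofList]; congr 1; ext z; exact List.mem_ofFn
    · obtain ⟨j, rfl⟩ := List.mem_ofFn.1 hz
      by_cases h : j = i
      · subst h; exact ⟨k, Ideal.mem_sup_right (Ideal.mem_span_singleton_self _)⟩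
      · exact ⟨e j, Ideal.mem_sup_left (Ideal.subset_span ((hl _).2 ⟨j, h, rfl⟩))⟩
  have hsplit : pe x e ≤ Ideal.ofList l ⊔ Ideal.span {x i ^ e i} := Ideal.span_le.2 fun z ⟨j, hj⟩ => by
    subst hj
    by_cases h : j = i
    · subst h; exact Ideal.mem_sup_right (Ideal.mem_span_singleton_self _)
    · exact Ideal.mem_sup_left (Ideal.subset_span ((hl _).2 ⟨j, h, rfl⟩))
  obtain ⟨o, ho, w, hw, how⟩ := Submodule.mem_sup.1 (hsplit hc)
  obtain ⟨α, rfl⟩ := Ideal.mem_span_singleton'.1 hw
  have hz : x i ^ k * (c - α * x i ^ (e i - k)) ∈ Ideal.ofList l := by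
    have : x i ^ k * (c - α * x i ^ (e i - k)) = o := by
      rw [mul_sub, mul_left_comm, ← pow_add, Nat.add_sub_cancel' hk]
      linear_combination -how
    rw [this]; exact ho
  have h := LC.mem_of_mul_mem_of_sop hCM D hD l (x i ^ k) hlen hrad hz
  rw [← sub_add_cancel c (α * x i ^ (e i - k))]
  refine Ideal.add_mem _ ?_ (mem_pe x _ i α (by simp))
  refine Ideal.span_le.2 (fun z hz => ?_) h
  obtain ⟨j, hj, rfl⟩ := (hl z).1 hz
  exact Ideal.subset_span ⟨j, by simp [Function.update_of_ne hj]⟩

include hCM hD hd hx in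
theorem colon_finset (s : Finset (Fin d)) (k e : Fin d → ℕ) (hk : ∀ i, k i ≤ e i) (c : R)
    (hc : c * ∏ i ∈ s, x i ^ k i ∈ pe x e) : c ∈ pe x (fun i => if i ∈ s then e i - k i else e i) := by
  classical
  induction s using Finset.induction generalizing c with
  | empty => simpa using hc
  | @insert j s hj ih =>
    rw [Finset.prod_insert hj, ← mul_assoc] at hc
    have h := colon hCM D hD x hd hx _ j (k j) (by simp [hj, hk]) c (ih _ hc)
    refine pe_mono x (fun i => ?_) h
    by_cases hij : i = j
    · subst hij; simp [hj]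
    · simp [hij]

include hCM hD hd hx in
/-- monomials below the exponent are not in the ideal of powers -/
theorem monomial_notMem (hd0 : 0 < d) (v : R) (hv : IsUnit v) (e : Fin d → ℕ) (N : ℕ) (he : ∀ i, e i < N) :
    v * ∏ i, x i ^ e i ∉ pe x fun _ => N := by
  classical
  intro h
  have h1 : 1 * ∏ i, x i ^ (N - 1) ∈ pe x fun _ => N := by
    have h2 := Ideal.mul_mem_left _ (↑hv.unit⁻¹ * ∏ i, x i ^ (N - 1 - e i)) h
    have : (↑hv.unit⁻¹ * ∏ i, x i ^ (N - 1 - e i)) * (v * ∏ i, x i ^ e i) = 1 * ∏ i, x i ^ (N - 1) := by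
      rw [mul_mul_mul_comm, IsUnit.val_inv_mul, one_mul, one_mul, ← Finset.prod_mul_distrib]
      refine Finset.prod_congr rfl fun i _ => ?_
      rw [← pow_add]; congr 1; have := he i; omega
    rwa [this] at h2
  have h3 := colon_finset hCM D hD x hd hx Finset.univ (fun _ => N - 1) (fun _ => N) (fun _ => Nat.sub_le _ _) 1 h1
  refine (maximalIdeal.isMaximal R).ne_top ((Ideal.eq_top_iff_one _).2 ?_)
  refine Ideal.span_le.2 ?_ h3
  rintro _ ⟨i, rfl⟩
  have hN := he i
  simp only [Finset.mem_univ, if_true]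
  exact Ideal.pow_mem_of_mem _ (hx ▸ Ideal.le_radical (Ideal.subset_span ⟨i, rfl⟩)) _ (by omega)

include hCM hD hd hx in
/-- the socle modulo powers is spanned by the monomial -/
theorem socle (n : ℕ) (c : R) (hc : ∀ i, c * x i ∈ pe x fun _ => n + 1) :
    ∃ v, c - v * ∏ i, x i ^ n ∈ pe x fun _ => n + 1 := by
  classical
  suffices ∀ s : Finset (Fin d), ∃ v, c - v * ∏ i ∈ s, x i ^ n ∈ pe x fun _ => n + 1 from this _
  intro s
  induction s using Finset.induction with
  | empty => exact ⟨c, by simp⟩
  | @insert j s hj ih =>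
    obtain ⟨v, hv⟩ := ih
    have h1 : v * x j * ∏ i ∈ s, x i ^ n ∈ pe x fun _ => n + 1 := by
      have h := Ideal.sub_mem _ (hc j) (Ideal.mul_mem_right (x j) _ hv)
      convert h using 1; ring
    have h2 := colon_finset hCM D hD x hd hx s (fun _ => n) (fun _ => n + 1) (fun _ => n.le_succ) _ h1
    rw [show v * x j = v * x j ^ 1 by rw [pow_one]] at h2
    have h3 := colon hCM D hD x hd hx _ j 1 (by simp [hj]) v h2
    obtain ⟨r, hr⟩ := Ideal.mem_span_range_iff_exists_fun.1 h3
    refine ⟨r j, ?_⟩
    rw [Finset.prod_insert hj]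
    have hrest : v * (∏ i ∈ s, x i ^ n) - r j * (x j ^ n * ∏ i ∈ s, x i ^ n) ∈ pe x fun _ => n + 1 := by
      rw [← hr, ← Finset.add_sum_erase _ _ (Finset.mem_univ j), add_mul, Finset.sum_mul]
      simp only [Function.update_self, if_neg hj, Nat.add_sub_cancel]
      rw [← mul_assoc, add_sub_cancel_left]
      refine Ideal.sum_mem _ fun i hi => ?_
      rw [Function.update_of_ne (Finset.ne_of_mem_erase hi)]
      by_cases his : i ∈ s
      · rw [if_pos his, show n + 1 - n = 1 by omega, pow_one, ← Finset.mul_prod_erase s _ his]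
        have := mem_pe x (fun _ => n + 1) i (r i * ∏ k ∈ s.erase i, x k ^ n) (le_refl (n + 1))
        convert this using 1; ring
      · rw [if_neg his]
        exact Ideal.mul_mem_right _ _ (mem_pe x (fun _ => n + 1) i (r i) le_rfl)
    have := Ideal.add_mem _ hv hrest
    convert this using 1; ring

omit [IsNoetherianRing R] in
theorem exists_socle_mult {I : Ideal R} : ∀ (M : ℕ) (c : R), c ∉ I → maximalIdeal R ^ M * Ideal.span {c} ≤ I →
    ∃ r, r * c ∉ I ∧ ∀ y ∈ maximalIdeal R, y * (r * c) ∈ I := by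
  intro M
  induction M with
  | zero => exact fun c hc h => absurd (h (by simp [Ideal.mem_span_singleton_self])) hc
  | succ M ih =>
    intro c hc h
    by_cases h' : ∀ y ∈ maximalIdeal R, y * c ∈ I
    · exact ⟨1, by rwa [one_mul], fun y hy => by rw [one_mul]; exact h' y hy⟩
    push Not at h'
    obtain ⟨y, hy, hyc⟩ := h'
    obtain ⟨r, hr, hr'⟩ := ih (y * c) hyc (le_trans (by
      rw [← Ideal.span_singleton_mul_span_singleton, pow_succ, mul_assoc]
      exact Ideal.mul_mono le_rfl (Ideal.mul_mono ((Ideal.span_singleton_le_iff_mem _).2 hy) le_rfl)) h)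
    exact ⟨r * y, by rwa [mul_assoc], fun z hz => by rw [mul_assoc]; exact hr' z hz⟩

end Fin

section Frobenius

variable {d : ℕ} (x : Fin d → R) (hd : d = D) (hx : Ideal.span (Set.range x) = maximalIdeal R)
  (p : ℕ) [Fact p.Prime] [CharP R p]

include hCM hD hd hx in
/-- `F - 1` is injective on the top local cohomology of a regular local ring -/
theorem frobenius_key (hd0 : 0 < d) (n : ℕ) (a : R)
    (h : a ^ p - a * (∏ i, x i) ^ ((p - 1) * n) ∈ pe x fun _ => p * n) : a ∈ pe x fun _ => n := by
  classical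
  have hp := (Fact.out : p.Prime).two_le
  cases n with
  | zero => simpa using mem_pe x (fun _ => 0) ⟨0, hd0⟩ a (k := 0) le_rfl
  | succ n =>
    by_contra ha
    have hx' : (Ideal.span (Set.range x)).radical = maximalIdeal R := by
      rw [hx]; exact (maximalIdeal.isMaximal R).isPrime.isRadical.radical
    obtain ⟨M, hM⟩ := Ideal.exists_pow_le_of_le_radical_of_fg (I := maximalIdeal R) (J := pe x fun _ => n + 1)
      (hx ▸ Ideal.span_le.2 (by
        rintro _ ⟨i, rfl⟩
        exact ⟨n + 1, Ideal.subset_span ⟨i, rfl⟩⟩)) (IsNoetherian.noetherian _)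
    obtain ⟨r, hr, hr'⟩ := exists_socle_mult M a ha ((Ideal.mul_le_left).trans hM)
    obtain ⟨v, hv⟩ := socle hCM D hD x hd hx' n (r * a) fun i => by
      rw [mul_comm]; exact hr' _ (hx ▸ Ideal.subset_span ⟨i, rfl⟩)
    have hkill : ∀ y ∈ maximalIdeal R, ∀ N, y * ∏ i, x i ^ N ∈ pe x fun _ => N + 1 := by
      intro y hy N
      rw [← hx] at hy
      refine (Submodule.span_le (p := Submodule.comap (LinearMap.mulRight R (∏ i, x i ^ N)) (pe x fun _ => N + 1))).2 ?_ hy
      rintro _ ⟨i, rfl⟩
      simp only [SetLike.mem_coe, Submodule.mem_comap, LinearMap.mulRight_apply]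
      rw [← Finset.mul_prod_erase _ _ (Finset.mem_univ i), ← mul_assoc, ← pow_succ', mul_comm]
      exact mem_pe x _ i _ le_rfl
    have hvu : IsUnit v := by
      by_contra hvu
      refine hr ?_
      have := Ideal.add_mem _ hv (hkill v hvu n)
      rwa [sub_add_cancel] at this
    have hfrob : ∀ z ∈ (pe x fun _ => n + 1), z ^ p ∈ pe x fun _ => p * (n + 1) := fun z hz => by
      have h1 : frobenius R p z ∈ Ideal.map (frobenius R p) (pe x fun _ => n + 1) := Ideal.mem_map_of_mem _ hz
      rw [pe, Ideal.map_span, ← Set.range_comp] at h1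
      refine Ideal.span_mono ?_ h1
      rintro _ ⟨i, rfl⟩
      exact ⟨i, by simp [frobenius_def, ← pow_mul, mul_comm]⟩
    let P := ∏ i, x i
    let z := r * a - v * P ^ n
    have hPn : ∀ k, P ^ k = ∏ i, x i ^ k := fun k => (Finset.prod_pow _ _ _).symm
    have hz : z ∈ pe x fun _ => n + 1 := by
      show r * a - v * P ^ n ∈ _
      rw [hPn]; exact hv
    have hzP : z * P ^ ((p - 1) * (n + 1)) ∈ pe x fun _ => p * (n + 1) := by
      obtain ⟨s, hs⟩ := Ideal.mem_span_range_iff_exists_fun.1 hz
      rw [← hs, Finset.sum_mul, hPn]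
      refine Ideal.sum_mem _ fun i _ => ?_
      rw [← Finset.mul_prod_erase _ _ (Finset.mem_univ i)]
      have := mem_pe x (fun _ => p * (n + 1)) i
        (s i * ∏ j ∈ Finset.univ.erase i, x j ^ ((p - 1) * (n + 1))) (k := (n + 1) + (p - 1) * (n + 1)) (by
          rw [show p * (n + 1) = ((p - 1) + 1) * (n + 1) by rw [Nat.sub_add_cancel (by omega)]]
          rw [Nat.succ_mul]; omega)
      convert this using 1
      rw [pow_add]; ring
    have e1 : n + (p - 1) * (n + 1) = p * (n + 1) - 1 := by
      rw [show p * (n + 1) = ((p - 1) + 1) * (n + 1) by rw [Nat.sub_add_cancel (by omega)], Nat.succ_mul]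
      omega
    -- the congruence multiplied by `r ^ p`
    have hmain : v ^ p * P ^ (p * n) - r ^ (p - 1) * (v * P ^ (n + (p - 1) * (n + 1))) ∈ pe x fun _ => p * (n + 1) := by
      have h1 := Ideal.mul_mem_left _ (r ^ p) h
      have h2 := hfrob z hz
      have e2 : (r * a) ^ p = z ^ p + v ^ p * P ^ (p * n) := by
        rw [← sub_add_cancel (r * a) (v * P ^ n), add_pow_char, mul_pow, ← pow_mul, mul_comm n p]
      have e3 : r ^ p = r ^ (p - 1) * r := by rw [← pow_succ, Nat.sub_add_cancel (by omega)]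
      have key : v ^ p * P ^ (p * n) - r ^ (p - 1) * (v * P ^ (n + (p - 1) * (n + 1))) =
          r ^ p * (a ^ p - a * P ^ ((p - 1) * (n + 1))) - z ^ p + r ^ (p - 1) * (z * P ^ ((p - 1) * (n + 1))) := by
        rw [mul_sub, ← mul_pow, e2, e3, pow_add]
        simp only [z]
        ring
      rw [key]
      exact Ideal.add_mem _ (Ideal.sub_mem _ h1 h2) (Ideal.mul_mem_left _ _ hzP)
    by_cases hrm : r ∈ maximalIdeal R
    · have h3 : r ^ (p - 1) * (v * P ^ (n + (p - 1) * (n + 1))) ∈ pe x fun _ => p * (n + 1) := by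
        have := Ideal.mul_mem_left _ v (hkill (r ^ (p - 1)) (Ideal.pow_mem_of_mem _ hrm _ (by omega)) (p * (n + 1) - 1))
        rw [Nat.sub_add_cancel (Nat.mul_pos (by omega) n.succ_pos), ← hPn, ← e1] at this
        convert this using 1; ring
      have h4 := Ideal.add_mem _ hmain h3
      rw [sub_add_cancel, hPn] at h4
      exact monomial_notMem hCM D hD x hd hx' hd0 (v ^ p) (hvu.pow p) (fun _ => p * n) _
        (fun _ => Nat.mul_lt_mul_of_pos_left n.lt_succ_self (by omega)) h4
    · let i0 : Fin d := ⟨0, hd0⟩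
      have h3 : x i0 * P ^ (n + (p - 1) * (n + 1)) ∈ pe x fun _ => p * (n + 1) := by
        have := hkill (x i0) (hx ▸ Ideal.subset_span ⟨i0, rfl⟩) (p * (n + 1) - 1)
        rwa [Nat.sub_add_cancel (Nat.mul_pos (by omega) n.succ_pos), ← hPn, ← e1] at this
      have h4 := Ideal.add_mem _ (Ideal.mul_mem_left _ (x i0) hmain)
        (Ideal.mul_mem_left _ (r ^ (p - 1) * v) h3)
      have e4 : x i0 * (v ^ p * P ^ (p * n) - r ^ (p - 1) * (v * P ^ (n + (p - 1) * (n + 1)))) +
          r ^ (p - 1) * v * (x i0 * P ^ (n + (p - 1) * (n + 1))) =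
          v ^ p * ∏ i, x i ^ (p * n + if i = i0 then 1 else 0) := by
        have hite : ∏ i, x i ^ (if i = i0 then 1 else 0) = x i0 := by
          rw [Finset.prod_eq_single i0 (fun b _ hb => by simp [hb]) (by simp)]
          simp
        simp only [pow_add]
        rw [Finset.prod_mul_distrib, hite, ← hPn]
        ring
      rw [e4] at h4
      refine monomial_notMem hCM D hD x hd hx' hd0 (v ^ p) (hvu.pow p)
        (fun i => p * n + if i = i0 then 1 else 0) _ (fun i => ?_) h4
      rw [Nat.mul_succ]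
      split_ifs <;> omega

end Frobenius

end Groth.Agent.EtDual68.SopAlg
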