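import Groth.Agent.EtDual68.GaSec
import Groth.Agent.EtDual68.SopAlg

/-!
# Cohomology of `G_a` on unions of basic opens of a Cohen–Macaulay affine scheme
-/

universe u

open CategoryTheory CategoryTheory.Limits AlgebraicGeometry Opposite CategoryTheory.Abelian

noncomputable section

namespace Groth.Agent.EtDual68.GaPunct

set_option backward.isDefEq.respectTransparency false
set_option backward.isDefEq.respectTransparency.types false

open EtDerLib (ZU ZUmap zuEquiv)
open OpensMV (opU inclU inclU_unique res)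
open scoped OpensMV
open GaSec SopAlg

variable {R : Type u} [CommRing R]

local notation "Y" => Spec (CommRingCat.of R)

/-- union of the basic opens of `g * a`, `g * b`, … -/
def cov (g : R) : R → List R → (Spec (CommRingCat.of R)).Opens
  | a, [] => bo (g * a)
  | a, b :: l => bo (g * a) ⊔ cov g b l

theorem bo_inf_bo (g a b : R) : bo (g * a) ⊓ bo (g * b) = bo (g * a * b) := by
  simp only [bo_mul, inf_assoc]
  rw [inf_left_comm (bo a), ← inf_assoc (bo g) (bo g), inf_idem]

theorem cov_inf (g a : R) : ∀ (b : R) (l : List R), bo (g * a) ⊓ cov g b l = cov (g * a) b l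
  | b, [] => bo_inf_bo g a b
  | b, c :: l => by
    rw [cov, cov, inf_sup_left, bo_inf_bo, cov_inf g a c l]

theorem cov_le (g : R) : ∀ (a : R) (l : List R), cov g a l ≤ bo g
  | a, [] => by rw [cov, bo_mul]; exact inf_le_left
  | a, b :: l => by
    rw [cov, bo_mul]
    exact sup_le inf_le_left (cov_le g b l)

theorem cov_le_mul (g a b : R) (l : List R) : cov (g * a) b l ≤ cov g b l :=
  (cov_inf g a b l).ge.trans inf_le_right

/-- restriction along inclusions of opens -/
abbrev rr {V W : (Spec (CommRingCat.of R)).Opens} (h : V ≤ W) (n : ℕ) :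
    HE (EtCoh.Ga Y) n (opU W) →+ HE (EtCoh.Ga Y) n (opU V) :=
  res (EtCoh.Ga Y) n (inclU h)

theorem rr_rr {A B C : (Spec (CommRingCat.of R)).Opens} (h : A ≤ B) (h' : B ≤ C) (n : ℕ)
    (x : HE (EtCoh.Ga Y) n (opU C)) : rr h n (rr h' n x) = rr (h.trans h') n x := by
  show (Ext.mk₀ _).comp ((Ext.mk₀ _).comp x (zero_add n)) (zero_add n) = (Ext.mk₀ _).comp x (zero_add n)
  rw [Ext.mk₀_comp_mk₀_assoc, ← OpensMV.ZUmap_comp, inclU_unique (inclU h ≫ inclU h') (inclU (h.trans h'))]

theorem rr_refl {A : (Spec (CommRingCat.of R)).Opens} (h : A ≤ A) (n : ℕ)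
    (x : HE (EtCoh.Ga Y) n (opU A)) : rr h n x = x := by
  show (Ext.mk₀ _).comp x (zero_add n) = x
  have e : ZUmap (inclU h) = 𝟙 _ := by
    rw [inclU_unique (inclU h) (𝟙 _)]
    refine (zuEquiv (opU A) _).injective ?_
    rw [EtDerLib.zuEquiv_eq, EtDerLib.zuEquiv_eq]
    have := EtDerLib.zuEquiv_ZUmap (𝟙 (opU A)) (𝟙 (ZU (opU A)))
    rw [Category.comp_id, op_id, CategoryTheory.Functor.map_id, EtDerLib.zuEquiv_eq, EtDerLib.zuEquiv_eq] at this
    exact this
  rw [e, Ext.mk₀_id_comp]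

theorem rr_injective_of_ge {A B : (Spec (CommRingCat.of R)).Opens} (h : A ≤ B) (h' : B ≤ A) (n : ℕ) :
    Function.Injective (rr (R := R) h n) := fun x y e => by
  have := congrArg (rr h' n) e
  rwa [rr_rr, rr_rr, rr_refl, rr_refl] at this

theorem rr_surjective_of_ge {A B : (Spec (CommRingCat.of R)).Opens} (h : A ≤ B) (h' : B ≤ A) (n : ℕ) :
    Function.Surjective (rr (R := R) h n) :=
  fun y => ⟨rr h' n y, by rw [rr_rr, rr_refl]⟩

theorem rr_cls {f f' : R} (h : bo f' ≤ bo f) (n : ℕ) (c a : R) (e : f * a = f') :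
    rr h 0 (cls (frac f n c)) = cls (frac f' n (c * a ^ n)) :=
  (HTres_cls _ _).trans (congrArg cls (frac_res h n c a e))

theorem affine_zero (f : R) (q : ℕ) (y : HE (EtCoh.Ga Y) (q + 1) (opU (bo f))) : y = 0 :=
  OpensMV.eq_zero_of_isAffAcyclic q (EtCoh.Ga Y) (EtLC12.GaAmitsur.isAffAcyclic_Ga _) (opU (bo f)) y

/-- two opens: classes of multiples of the second power vanish -/
theorem pair_mem (g a b : R) (h : bo (g * a) ⊓ bo (g * b) ≤ bo (g * a * b)) (n : ℕ) (s : R) :
    OpensMV.δ (EtCoh.Ga Y) (bo (g * a)) (bo (g * b)) 0 (rr h 0 (cls (frac (g * a * b) n (s * b ^ n)))) = 0 := by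
  have hle : bo (g * a * b) ≤ bo (g * a) := by rw [bo_mul (g * a) b]; exact inf_le_left
  rw [← rr_cls hle n s b rfl, rr_rr]
  exact OpensMV.δ_res_left _ _

/-- two opens: the kernel -/
theorem pair_kernel (g a b : R) (h : bo (g * a) ⊓ bo (g * b) ≤ bo (g * a * b)) (n : ℕ) (c : R)
    (hc : OpensMV.δ (EtCoh.Ga Y) (bo (g * a)) (bo (g * b)) 0 (rr h 0 (cls (frac (g * a * b) n c))) = 0) :
    ∃ N, (g * a * b) ^ N * c ∈ Ideal.span {a ^ (n + N)} ⊔ Ideal.span {b ^ (n + N)} := by
  obtain ⟨u, v, huv⟩ := OpensMV.exists_of_δ_eq_zero _ hc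
  obtain ⟨u, rfl⟩ := cls_surjective u
  obtain ⟨n₁, u, rfl⟩ := exists_frac _ u
  obtain ⟨v, rfl⟩ := cls_surjective v
  obtain ⟨n₂, v, rfl⟩ := exists_frac _ v
  have h' : bo (g * a * b) ≤ bo (g * a) ⊓ bo (g * b) := (bo_inf_bo g a b).ge
  have hu : bo (g * a * b) ≤ bo (g * a) := h'.trans inf_le_left
  have hv : bo (g * a * b) ≤ bo (g * b) := h'.trans inf_le_right
  have huv' : cls (frac (g * a * b) n c) =
      cls (frac (g * a * b) n₁ (u * b ^ n₁)) - cls (frac (g * a * b) n₂ (v * a ^ n₂)) := by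
    have e := congrArg (rr h' 0) huv
    rw [map_sub] at e
    rw [← rr_cls hu n₁ u b rfl, ← rr_cls hv n₂ v a (by ring)]
    refine ((rr_refl le_rfl 0 _).symm.trans (rr_rr h' h 0 _).symm).trans (e.trans ?_)
    exact congrArg₂ (· - ·) (rr_rr _ _ 0 _) (rr_rr _ _ 0 _)
  let M := max n (max n₁ n₂)
  rw [eq_sub_iff_add_eq, ← cls_add] at huv'
  have hz := cls_injective huv'
  rw [← frac_scale _ n (M - n) c, ← frac_scale _ n₁ (M - n₁) (u * b ^ n₁), ← frac_scale _ n₂ (M - n₂) (v * a ^ n₂),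
    show n + (M - n) = M by omega, show n₁ + (M - n₁) = M by omega, show n₂ + (M - n₂) = M by omega,
    ← frac_add] at hz
  have hsub : frac (g * a * b) M (c * (g * a * b) ^ (M - n) + v * a ^ n₂ * (g * a * b) ^ (M - n₂) -
      u * b ^ n₁ * (g * a * b) ^ (M - n₁)) = 0 := by
    refine (eq_frac ?_).symm
    rw [zero_mul, map_sub, ← frac_spec _ M (_ + _), hz, frac_spec, sub_self]
  obtain ⟨k, hk⟩ := frac_eq_zero hsub
  refine ⟨k + (M - n), ?_⟩
  have ea : a ^ (n + (k + (M - n))) = a ^ n₂ * a ^ (k + (M - n₂)) := by rw [← pow_add]; congr 1; omega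
  have eb : b ^ (n + (k + (M - n))) = b ^ n₁ * b ^ (k + (M - n₁)) := by rw [← pow_add]; congr 1; omega
  rw [ea, eb, Submodule.mem_sup]
  refine ⟨_, Ideal.mul_mem_left _ (-(v * g ^ (k + (M - n₂)) * b ^ (k + (M - n₂)))) (Ideal.mem_span_singleton_self _),
    _, Ideal.mul_mem_left _ (u * g ^ (k + (M - n₁)) * a ^ (k + (M - n₁))) (Ideal.mem_span_singleton_self _), ?_⟩
  simp only [pow_add, mul_pow] at hk ⊢
  linear_combination -hk

/-- the Čech class of `c / (g ∏ l) ^ n` -/
def Ψ (g : R) : (a : R) → (l : List R) → ℕ → R → HE (EtCoh.Ga Y) l.length (opU (cov g a l))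
  | a, [], n, c => cls (frac (g * a) n c)
  | a, b :: l, n, c => OpensMV.δ _ _ _ l.length (rr (cov_inf g a b l).le _ (Ψ (g * a) b l n c))
  termination_by structural _ l => l

/-- the denominator -/
def den (g a : R) (l : List R) : R := g * (a :: l).prod

theorem den_cons (g a b : R) (l : List R) : den (g * a) b l = den g a (b :: l) := by
  simp [den, mul_assoc]

theorem Ψ_scale : ∀ (l : List R) (g a : R) (n k : ℕ) (c : R),
    Ψ g a l (n + k) (c * den g a l ^ k) = Ψ g a l n c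
  | [], g, a, n, k, c => by
    rw [Ψ, Ψ, show den g a [] = g * a by simp [den], frac_scale]
  | b :: l, g, a, n, k, c => by
    rw [Ψ, Ψ, ← den_cons, Ψ_scale l (g * a) b n k c]

theorem step_add (g a b : R) (l : List R) (x y : HE (EtCoh.Ga Y) l.length (opU (cov (g * a) b l))) :
    OpensMV.δ _ (bo (g * a)) (cov g b l) l.length (rr (cov_inf g a b l).le _ (x + y)) =
      OpensMV.δ _ (bo (g * a)) (cov g b l) l.length (rr (cov_inf g a b l).le _ x) +
        OpensMV.δ _ (bo (g * a)) (cov g b l) l.length (rr (cov_inf g a b l).le _ y) := by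
  rw [map_add, map_add]

theorem step_zero (g a b : R) (l : List R) :
    OpensMV.δ _ (bo (g * a)) (cov g b l) l.length
      (rr (cov_inf g a b l).le _ (0 : HE (EtCoh.Ga Y) l.length (opU (cov (g * a) b l)))) = 0 := by
  rw [map_zero, map_zero]

theorem Ψ_add (l : List R) : ∀ (g a : R) (n : ℕ) (c d : R),
    Ψ g a l n (c + d) = Ψ g a l n c + Ψ g a l n d := by
  induction l with
  | nil => exact fun g a n c d => (congrArg cls (frac_add _ n c d)).trans (cls_add _ _)
  | cons b l ih =>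
    exact fun g a n c d => (congrArg (fun t => OpensMV.δ _ (bo (g * a)) (cov g b l) l.length
      (rr (cov_inf g a b l).le _ t)) (ih (g * a) b n c d)).trans (step_add g a b l _ _)

/-- `Ψ` as a homomorphism -/
def Ψhom (g a : R) (l : List R) (n : ℕ) : R →+ HE (EtCoh.Ga Y) l.length (opU (cov g a l)) :=
  AddMonoidHom.mk' (Ψ g a l n) (Ψ_add l g a n)

theorem Ψ_zero (g a : R) (l : List R) (n : ℕ) : Ψ g a l n 0 = 0 := map_zero (Ψhom g a l n)

theorem Ψ_sub (g a : R) (l : List R) (n : ℕ) (c d : R) :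
    Ψ g a l n (c - d) = Ψ g a l n c - Ψ g a l n d := map_sub (Ψhom g a l n) c d

theorem Ψ_common (g a : R) (l : List R) {n M : ℕ} (h : n ≤ M) (c : R) :
    Ψ g a l n c = Ψ g a l M (c * den g a l ^ (M - n)) := by
  conv_rhs => rw [← Nat.add_sub_cancel' h, Nat.add_sub_cancel_left]
  exact (Ψ_scale l g a n (M - n) c).symm

/-- restriction from `g` to `g'` = `g * e` -/
theorem Ψ_res : ∀ (l : List R) (g e g' : R) (_ : g * e = g') (a : R) (h : cov g' a l ≤ cov g a l) (n : ℕ) (c : R),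
    rr h _ (Ψ g a l n c) = Ψ g' a l n (c * e ^ n)
  | [], g, e, g', hg, a, h, n, c => by
    rw [Ψ, Ψ]
    exact rr_cls h n c e (by rw [← hg]; ring)
  | b :: l, g, e, g', hg, a, h, n, c => by
    have hU : bo (g' * a) ≤ bo (g * a) := by
      rw [← hg, bo_mul, bo_mul, bo_mul]
      exact inf_le_inf_right _ inf_le_left
    have hV : cov g' b l ≤ cov g b l := hg ▸ cov_le_mul g e b l
    have hI : cov (g' * a) b l ≤ cov (g * a) b l :=
      (cov_inf g' a b l).ge.trans ((inf_le_inf hU hV).trans (cov_inf g a b l).le)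
    rw [Ψ, Ψ, ← Ψ_res l (g * a) e (g' * a) (by rw [← hg]; ring) b hI n c]
    refine (OpensMV.δ_natural hU hV l.length (rr (cov_inf g a b l).le _ (Ψ (g * a) b l n c))).symm.trans ?_
    exact congrArg _ ((rr_rr _ _ _ _).trans (rr_rr _ _ _ _).symm)

theorem Ψ_surjective : ∀ (l : List R) (g a : R) (z : HE (EtCoh.Ga Y) l.length (opU (cov g a l))),
    (∀ (g' b : R) (l' : List R) (y : HE (EtCoh.Ga Y) (l'.length + 1) (opU (cov g' b l'))), y = 0) →
    ∃ n c, Ψ g a l n c = z
  | [], g, a, z, _ => by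
    obtain ⟨w, rfl⟩ := cls_surjective z
    obtain ⟨n, c, rfl⟩ := exists_frac _ w
    exact ⟨n, c, by rw [Ψ]⟩
  | b :: l, g, a, z, hvan => by
    obtain ⟨x, hx⟩ := OpensMV.exists_δ_eq (U := bo (g * a)) (V := cov g b l) z
      (affine_zero _ _ _)
      (hvan g b l _)
    obtain ⟨y, rfl⟩ := rr_surjective_of_ge (cov_inf g a b l).le (cov_inf g a b l).ge _ x
    obtain ⟨n, c, rfl⟩ := Ψ_surjective l (g * a) b y hvan
    exact ⟨n, c, by rw [Ψ]; exact hx⟩

/-- vanishing above the number of opens -/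
theorem eq_zero_of_gt : ∀ (l : List R) (g a : R) (q : ℕ), l.length ≤ q →
    ∀ y : HE (EtCoh.Ga Y) (q + 1) (opU (cov g a l)), y = 0
  | [], g, a, q, _, y => affine_zero (g * a) q y
  | b :: l, g, a, q, hq, y => by
    obtain ⟨x, rfl⟩ := OpensMV.exists_δ_eq (U := bo (g * a)) (V := cov g b l) y
      (affine_zero _ _ _)
      (eq_zero_of_gt l g b q (by simp at hq; omega) _)
    obtain ⟨x', rfl⟩ := rr_surjective_of_ge (cov_inf g a b l).le (cov_inf g a b l).ge _ x
    cases q with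
    | zero => simp at hq
    | succ q => rw [eq_zero_of_gt l (g * a) b q (by simp at hq; omega) x', map_zero, map_zero]

theorem Ψ_surjective' (g a : R) (l : List R) (z : HE (EtCoh.Ga Y) l.length (opU (cov g a l))) :
    ∃ n c, Ψ g a l n c = z :=
  Ψ_surjective l g a z fun g' b l' y => eq_zero_of_gt l' g' b l'.length le_rfl y

theorem pw_cons (a : R) (l : List R) (n : ℕ) : pw (a :: l) n = Ideal.span {a ^ n} ⊔ pw l n :=
  Ideal.ofList_cons _ _

/-- classes of ideal elements vanish -/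
theorem Ψ_eq_zero_of_mem : ∀ (l : List R) (g a b : R) (n : ℕ) (c : R), c ∈ pw (a :: b :: l) n →
    Ψ g a (b :: l) n c = 0
  | l, g, a, b, n, c, hc => by
    rw [pw_cons, Submodule.mem_sup] at hc
    obtain ⟨u, hu, w, hw, rfl⟩ := hc
    obtain ⟨r, rfl⟩ := Ideal.mem_span_singleton'.1 hu
    have h1 : Ψ g a (b :: l) n (r * a ^ n) = 0 := by
      rw [Ψ, ← Ψ_res l g a (g * a) rfl b (cov_le_mul g a b l) n r, rr_rr]
      exact OpensMV.δ_res_right _ _
    refine (Ψ_add _ g a n _ _).trans ((congrArg₂ (· + ·) h1 ?_).trans (zero_add 0))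
    match l, hw with
    | [], hw =>
      rw [pw_cons, show pw ([] : List R) n = ⊥ by simp [pw], sup_bot_eq] at hw
      obtain ⟨s, rfl⟩ := Ideal.mem_span_singleton'.1 hw
      rw [Ψ, Ψ]
      exact pair_mem g a b (cov_inf g a b []).le n s
    | d :: l', hw =>
      exact (congrArg (fun t => OpensMV.δ _ (bo (g * a)) (cov g b (d :: l')) (d :: l').length
        (rr (cov_inf g a b (d :: l')).le _ t)) (Ψ_eq_zero_of_mem l' (g * a) b d n w hw)).trans
          (step_zero g a b (d :: l'))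

/-- classes killed: membership in the ideal after scaling -/
theorem exists_mem_of_Ψ_eq_zero : ∀ (l : List R) (g a b : R) (n : ℕ) (c : R), Ψ g a (b :: l) n c = 0 →
    ∃ N, den g a (b :: l) ^ N * c ∈ pw (a :: b :: l) (n + N)
  | [], g, a, b, n, c, h => by
    rw [Ψ, Ψ] at h
    obtain ⟨N, hN⟩ := pair_kernel g a b (cov_inf g a b []).le n c h
    refine ⟨N, ?_⟩
    rw [pw_cons, pw_cons, show pw ([] : List R) (n + N) = ⊥ by simp [pw], sup_bot_eq,
      show den g a [b] = g * a * b by simp [den, mul_assoc]]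
    exact hN
  | d :: l, g, a, b, n, c, h => by
    rw [Ψ] at h
    obtain ⟨u, v, huv⟩ := OpensMV.exists_of_δ_eq_zero _ h
    have hu : u = 0 := affine_zero (g * a) l.length u
    obtain ⟨n₂, v, rfl⟩ := Ψ_surjective' g b (d :: l) v
    have huv' := congrArg (rr (cov_inf g a b (d :: l)).ge _) huv
    rw [rr_rr, rr_refl, hu, map_zero, zero_sub, map_neg, rr_rr, Ψ_res (d :: l) g a (g * a) rfl b] at huv'
    let M := max n n₂
    rw [Ψ_common _ _ _ (le_max_left n n₂ : n ≤ M), Ψ_common _ _ _ (le_max_right n n₂ : n₂ ≤ M),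
      ← add_eq_zero_iff_eq_neg, ← Ψ_add] at huv'
    obtain ⟨N, hN⟩ := exists_mem_of_Ψ_eq_zero l (g * a) b d M _ huv'
    refine ⟨N + (M - n), ?_⟩
    rw [show n + (N + (M - n)) = M + N by omega, pw_cons, Submodule.mem_sup]
    refine ⟨-(v * g ^ (N + (M - n₂)) * (b :: d :: l).prod ^ (N + (M - n₂))) * a ^ (M + N), ?_, _, hN, ?_⟩
    · exact Ideal.mul_mem_left _ _ (Ideal.mem_span_singleton_self (a ^ (M + N)))
    · simp only [den_cons, M]
      simp only [den, List.prod_cons]
      rw [show M + N = n₂ + (N + (M - n₂)) by omega]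
      simp only [pow_add, mul_pow]
      ring

end Groth.Agent.EtDual68.GaPunct
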