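import Groth.Agent.EtDual68.GaPunct

/-!
# `G_a` on unions of basic opens for regular sequences of powers
-/

universe u

open CategoryTheory CategoryTheory.Limits AlgebraicGeometry Opposite CategoryTheory.Abelian

noncomputable section

namespace Groth.Agent.EtDual68.GaPunct

set_option backward.isDefEq.respectTransparency false
set_option backward.isDefEq.respectTransparency.types false

open EtDerLib (ZU ZUmap zuEquiv)
open OpensMV (opU inclU inclU_unique res)
open scoped OpensMV
open GaSec SopAlg

variable {R : Type u} [CommRing R]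

local notation "Y" => Spec (CommRingCat.of R)

theorem good_tail {a : R} {l : List R} (h : Good (a :: l)) : Good l := h.2

theorem good_cancel_pow {a : R} {l : List R} (h : Good (a :: l)) (m : ℕ) : ∀ (k : ℕ) (c : R),
    a ^ k * c ∈ pw l m → c ∈ pw l m
  | 0, c, hc => by simpa using hc
  | k + 1, c, hc => h.1 m c (good_cancel_pow h m k (c * a) (by
      rwa [show a ^ k * (c * a) = a ^ (k + 1) * c by rw [pow_succ]; ring]))

theorem pw_nil (m : ℕ) : pw ([] : List R) m = ⊥ := by simp [pw]

/-- restriction of functions from `D g` is injective -/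
theorem res_injective : ∀ (l : List R) (g a : R), Good (a :: l) →
    Function.Injective (inclU (cov_le g a l)).left.appTop
  | [], g, a, h, x, y, hxy => by
    have key : ∀ z, (inclU (cov_le g a [])).left.appTop z = 0 → z = 0 := fun z hz => by
      obtain ⟨n, c, rfl⟩ := exists_frac g z
      have e : frac (g * a) n (c * a ^ n) = 0 := (frac_res (f' := g * a) (cov_le g a []) n c a rfl).symm.trans hz
      obtain ⟨k, hk⟩ := frac_eq_zero e
      have hk' : a ^ (k + n) * (g ^ k * c) ∈ pw ([] : List R) 1 := by
        rw [pw_nil, Ideal.mem_bot, ← hk]; ring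
      have h' := good_cancel_pow h 1 (k + n) _ hk'
      rw [pw_nil, Ideal.mem_bot] at h'
      refine (eq_frac (n := n) ?_).symm
      rw [zero_mul]
      have hu := ((isUnit_ρ g).pow k)
      refine (hu.mul_right_eq_zero.1 ?_).symm
      rw [← map_pow, ← map_mul, h', map_zero]
    exact sub_eq_zero.1 (key _ (by rw [map_sub, hxy, sub_self]))
  | b :: l, g, a, h, x, y, hxy => by
    refine res_injective l g b h.2 ?_
    have e := congrArg (inclU (le_sup_right : cov g b l ≤ bo (g * a) ⊔ cov g b l)).left.appTop hxy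
    have eq : ∀ z, (inclU (le_sup_right : cov g b l ≤ bo (g * a) ⊔ cov g b l)).left.appTop
        ((inclU (cov_le g a (b :: l))).left.appTop z) = (inclU (cov_le g b l)).left.appTop z := fun z => by
      refine (appTop_comp_apply (inclU (le_sup_right : cov g b l ≤ bo (g * a) ⊔ cov g b l))
        (inclU (cov_le g a (b :: l))) z).trans ?_
      rw [inclU_unique (_ ≫ _) (inclU (cov_le g b l))]
    exact (eq x).symm.trans (e.trans (eq y))

theorem bo_mul_le (g a : R) : bo (g * a) ≤ bo g := by rw [bo_mul]; exact inf_le_left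

theorem appTop_inclU {A B C : (Spec (CommRingCat.of R)).Opens} (h : A ≤ B) (h' : B ≤ C)
    (z : Γ((opU C).left, ⊤)) :
    (inclU h).left.appTop ((inclU h').left.appTop z) = (inclU (h.trans h')).left.appTop z := by
  refine (appTop_comp_apply (inclU h) (inclU h') z).trans ?_
  rw [inclU_unique (_ ≫ _) (inclU (h.trans h'))]

/-- functions on two basic opens extend to `D g` -/
theorem pair_extend (g a b : R) (h : Good [a, b]) (s : Γ((opU (bo (g * a) ⊔ bo (g * b))).left, ⊤)) :
    ∃ r, (inclU (sup_le (bo_mul_le g a) (bo_mul_le g b))).left.appTop r = s := by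
  obtain ⟨n, c, hc⟩ := exists_frac (g * a) ((inclU le_sup_left).left.appTop s)
  obtain ⟨m, v, hv⟩ := exists_frac (g * b) ((inclU le_sup_right).left.appTop s)
  have hi : bo (g * a * b) ≤ bo (g * a) ⊓ bo (g * b) := (bo_inf_bo g a b).ge
  have hab : frac (g * a * b) n (c * b ^ n) = frac (g * a * b) m (v * a ^ m) := by
    rw [← frac_res (hi.trans inf_le_left) n c b rfl, ← frac_res (hi.trans inf_le_right) m v a (by ring), ← hc, ← hv,
      appTop_inclU, appTop_inclU]
  have hzero : ρ (opU (bo (g * a * b))) ((c * b ^ n) * (g * a * b) ^ m - (v * a ^ m) * (g * a * b) ^ n) = 0 := by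
    rw [map_sub, map_mul, map_mul _ (v * a ^ m), map_pow, map_pow, ← frac_spec _ n (c * b ^ n),
      ← frac_spec _ m (v * a ^ m), hab]
    ring
  obtain ⟨k, hk⟩ := exists_pow_mul_eq_zero _ _ hzero
  have h1 : g ^ (k + m) * a ^ (k + m) * b ^ m * c - g ^ (k + n) * a ^ (k + (m + n)) * v ∈ pw ([] : List R) 1 := by
    refine good_cancel_pow (a := b) h.2 1 (k + n) _ ?_
    rw [pw_nil, Ideal.mem_bot, ← hk]; ring
  rw [pw_nil, Ideal.mem_bot] at h1
  have h2 : g ^ (k + n) * v ∈ pw [b] m := by
    refine good_cancel_pow h m (k + (m + n)) _ ?_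
    rw [pw_cons, pw_nil, sup_bot_eq, Ideal.mem_span_singleton']
    exact ⟨g ^ (k + m) * a ^ (k + m) * c, by linear_combination h1⟩
  rw [pw_cons, pw_nil, sup_bot_eq, Ideal.mem_span_singleton'] at h2
  obtain ⟨r, hr⟩ := h2
  refine ⟨frac g (k + n + m) r, ?_⟩
  have hV : (inclU (bo_mul_le g b)).left.appTop (frac g (k + n + m) r) = frac (g * b) m v := by
    rw [frac_res (bo_mul_le g b) _ r b rfl, ← frac_scale (g * b) m (k + n) v]
    congr 1
    · omega
    · linear_combination b ^ (k + n) * hr
  refine eq_of_res ?_ ?_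
  · rw [appTop_inclU, hc]
    refine res_injective [] (g * a) b h.2 ?_
    show (inclU (bo_mul_le (g * a) b)).left.appTop _ = (inclU (bo_mul_le (g * a) b)).left.appTop _
    rw [appTop_inclU, frac_res (bo_mul_le (g * a) b) n c b rfl, hab,
      ← frac_res (hi.trans inf_le_right) m v a (by ring), ← hV, appTop_inclU]
  · rw [appTop_inclU, hv]
    exact hV

/-- functions extend to `D g` -/
theorem res_surjective : ∀ (l : List R) (g a : R), l ≠ [] → Good (a :: l) →
    Function.Surjective (inclU (cov_le g a l)).left.appTop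
  | [], _, _, h, _, _ => absurd rfl h
  | [b], g, a, _, h, s => by
    obtain ⟨r, hr⟩ := pair_extend g a b h s
    exact ⟨r, hr⟩
  | b :: d :: l, g, a, _, h, s => by
    obtain ⟨r, hr⟩ := res_surjective (d :: l) g b (by simp) h.2
      ((inclU (le_sup_right : cov g b (d :: l) ≤ bo (g * a) ⊔ cov g b (d :: l))).left.appTop s)
    refine ⟨r, eq_of_res (U := bo (g * a)) (V := cov g b (d :: l)) ?_ ((appTop_inclU _ _ r).trans hr)⟩
    refine res_injective (d :: l) (g * a) b h.2 ?_
    have hI : cov (g * a) b (d :: l) ≤ cov g b (d :: l) := cov_le_mul g a b _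
    have e := congrArg (inclU hI).left.appTop hr
    rw [appTop_inclU, appTop_inclU] at e
    refine ((appTop_inclU _ _ _).trans ((appTop_inclU _ _ _).trans e)).trans (appTop_inclU _ _ _).symm

/-- vanishing in middle degrees -/
theorem eq_zero_of_mid : ∀ (l : List R) (g a : R) (q : ℕ), Good (a :: l) → q + 1 < l.length →
    ∀ y : HE (EtCoh.Ga Y) (q + 1) (opU (cov g a l)), y = 0
  | [], g, a, q, _, hq, y => absurd hq (by simp)
  | b :: l, g, a, q, h, hq, y => by
    have hV : res (EtCoh.Ga Y) (q + 1) (inclU (le_sup_right : cov g b l ≤ bo (g * a) ⊔ cov g b l)) y = 0 := by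
      by_cases hlt : q + 1 < l.length
      · exact eq_zero_of_mid l g b q h.2 hlt _
      · match l, hq, h, hlt with
        | [], hq, _, _ => simp at hq
        | d :: l', hq, h, hlt =>
          obtain rfl : q = l'.length := by simp at hq hlt; omega
          obtain ⟨n, c, hc⟩ := Ψ_surjective' g b (d :: l')
            (res (EtCoh.Ga Y) ((d :: l').length) (inclU (le_sup_right : cov g b (d :: l') ≤ _)) y)
          have e : Ψ (g * a) b (d :: l') n (c * a ^ n) = 0 := by
            rw [← Ψ_res (d :: l') g a (g * a) rfl b (cov_le_mul g a b _) n c, hc, rr_rr]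
            have hu : rr ((cov_inf g a b (d :: l')).ge.trans inf_le_left) _
                (rr (le_sup_left : bo (g * a) ≤ bo (g * a) ⊔ cov g b (d :: l')) _ y) = 0 :=
              (congrArg _ (affine_zero (g * a) l'.length _)).trans (map_zero _)
            exact (rr_rr _ _ _ _).symm.trans hu
          obtain ⟨N, hN⟩ := exists_mem_of_Ψ_eq_zero l' (g * a) b d n _ e
          have hN' : a ^ (N + n) * (den g b (d :: l') ^ N * c) ∈ pw (b :: d :: l') (n + N) := by
            convert hN using 1
            simp only [den, mul_pow, pow_add]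
            ring
          have h' := good_cancel_pow h (n + N) (N + n) _ hN'
          show res (EtCoh.Ga Y) ((d :: l').length) (inclU le_sup_right) y = 0
          rw [← hc, ← Ψ_scale _ g b n N c, mul_comm]
          exact Ψ_eq_zero_of_mem l' g b d _ _ h'
    obtain ⟨x, rfl⟩ := OpensMV.exists_δ_eq (U := bo (g * a)) (V := cov g b l) y (affine_zero _ _ _) hV
    obtain ⟨x', rfl⟩ := rr_surjective_of_ge (cov_inf g a b l).le (cov_inf g a b l).ge _ x
    match q, hq, x' with
    | q + 1, hq, x' =>
      rw [eq_zero_of_mid l (g * a) b q h.2 (by simp at hq; omega) x', map_zero, map_zero]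
    | 0, hq, x' =>
      obtain ⟨z, rfl⟩ := cls_surjective x'
      obtain ⟨r, rfl⟩ := res_surjective l (g * a) b (by rintro rfl; simp at hq) h.2 z
      rw [← HTres_cls, rr_rr, ← rr_rr inf_le_left le_rfl]
      exact OpensMV.δ_res_left _ _

/-- compatibility with endomorphisms -/
theorem Ψ_comp (φ : EtCoh.Ga Y ⟶ EtCoh.Ga Y) (m : ℕ) (τ : R → ℕ → R → R)
    (hφ : ∀ f n c, (cls (frac f n c)).comp (Ext.mk₀ φ) (add_zero 0) = cls (frac f (m * n) (τ f n c))) :
    ∀ (l : List R) (g a : R) (n : ℕ) (c : R),
      (Ψ g a l n c).comp (Ext.mk₀ φ) (add_zero _) = Ψ g a l (m * n) (τ (den g a l) n c)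
  | [], g, a, n, c => by
    rw [show den g a [] = g * a by simp [den], Ψ, Ψ]
    exact hφ _ n c
  | b :: l, g, a, n, c => by
    rw [Ψ, Ψ, ← den_cons, ← Ψ_comp φ m τ hφ l (g * a) b n c]
    refine (OpensMV.δ_comp φ _ _).symm.trans (congrArg _ ?_)
    exact (OpensMV.res_comp_apply _ _ _ _).symm

end Groth.Agent.EtDual68.GaPunct
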