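import Groth.Agent.EtDual68.OpensMV
import Groth.Agent.EtLC12.GaAmitsur
import Mathlib.AlgebraicGeometry.AffineScheme

/-!
# Sections of `G_a` on basic opens of an affine scheme
-/

universe u

open CategoryTheory CategoryTheory.Limits AlgebraicGeometry Opposite CategoryTheory.Abelian

noncomputable section

namespace Groth.Agent.EtDual68.GaSec

set_option backward.isDefEq.respectTransparency false
set_option backward.isDefEq.respectTransparency.types false

open EtDerLib (ZU ZUmap zuEquiv zuEquiv_ZUmap zuEquiv_eq)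
open OpensMV (opU inclU res)
open scoped OpensMV

variable {R : Type u} [CommRing R]

local notation "Y" => Spec (CommRingCat.of R)

/-- a basic open -/
def bo (f : R) : (Spec (CommRingCat.of R)).Opens :=
  (Spec (CommRingCat.of R)).basicOpen ((Scheme.ΓSpecIso (CommRingCat.of R)).inv.hom f)

theorem bo_mul (f g : R) : bo (f * g) = bo f ⊓ bo g := by
  rw [bo, map_mul, Scheme.basicOpen_mul]; rfl

theorem bo_one : bo (1 : R) = ⊤ := by
  rw [bo, map_one]
  exact Scheme.basicOpen_of_isUnit _ isUnit_one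

theorem mem_bo (f : R) (x : PrimeSpectrum R) : x ∈ bo f ↔ f ∉ x.asIdeal := by
  rw [bo, basicOpen_eq_of_affine', Iso.inv_hom_id_apply]
  exact Iff.rfl

instance isAffine_bo (f : R) : IsAffine (opU (bo f)).left :=
  (isAffineOpen_top (Spec (CommRingCat.of R))).basicOpen _

/-- functions from the base -/
def ρ (T : (Spec (CommRingCat.of R)).Etale) : R →+* Γ(T.left, ⊤) :=
  (Scheme.Hom.appTop T.hom).hom.comp (Scheme.ΓSpecIso (CommRingCat.of R)).inv.hom

theorem ρ_nat {T T' : (Spec (CommRingCat.of R)).Etale} (a : T' ⟶ T) (r : R) :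
    a.left.appTop (ρ T r) = ρ T' r := by
  have e : a.left ≫ T.hom = T'.hom := MorphismProperty.Over.w a
  show _ = (Scheme.Hom.appTop T'.hom).hom _
  rw [← e, Scheme.Hom.comp_appTop]
  rfl

theorem ρ_opU (W : (Spec (CommRingCat.of R)).Opens) (r : R) :
    ρ (opU W) r = W.topIso.inv ((Spec (CommRingCat.of R)).presheaf.map (homOfLE le_top : W ⟶ ⊤).op
      ((Scheme.ΓSpecIso (CommRingCat.of R)).inv.hom r)) := by
  show W.ι.appTop _ = _
  rw [Scheme.Opens.ι_appTop, Scheme.Opens.topIso_inv, ← ConcreteCategory.comp_apply, ← Functor.map_comp]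
  rfl

theorem isUnit_ρ (f : R) : IsUnit (ρ (opU (bo f)) f) := by
  rw [ρ_opU]
  exact ((Spec (CommRingCat.of R)).toRingedSpace.isUnit_res_basicOpen _).map (Scheme.Opens.topIso (bo f)).inv.hom

theorem topIso_inv_injective (W : (Spec (CommRingCat.of R)).Opens) :
    Function.Injective W.topIso.inv :=
  W.topIso.symm.commRingCatIsoToRingEquiv.injective

instance algebra_bo (f : R) :
    Algebra Γ(Spec (CommRingCat.of R), ⊤) Γ(Spec (CommRingCat.of R), bo f) :=
  ((Spec (CommRingCat.of R)).presheaf.map (homOfLE le_top : bo f ⟶ ⊤).op).hom.toAlgebra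

instance isLocalization_bo (f : R) :
    IsLocalization.Away ((Scheme.ΓSpecIso (CommRingCat.of R)).inv.hom f) Γ(Spec (CommRingCat.of R), bo f) :=
  (isAffineOpen_top (Spec (CommRingCat.of R))).isLocalization_basicOpen _

theorem exists_pow_mul_eq_zero (f c : R) (h : ρ (opU (bo f)) c = 0) : ∃ k, f ^ k * c = 0 := by
  rw [ρ_opU] at h
  have h' := topIso_inv_injective _ (h.trans (map_zero _).symm)
  obtain ⟨⟨_, k, rfl⟩, hk⟩ := (IsLocalization.map_eq_zero_iff
    (Submonoid.powers ((Scheme.ΓSpecIso (CommRingCat.of R)).inv.hom f)) Γ(Spec (CommRingCat.of R), bo f) _).1 h'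
  refine ⟨k, (Scheme.ΓSpecIso (CommRingCat.of R)).symm.commRingCatIsoToRingEquiv.injective ?_⟩
  show (Scheme.ΓSpecIso (CommRingCat.of R)).inv.hom _ = (Scheme.ΓSpecIso (CommRingCat.of R)).inv.hom 0
  rw [map_mul, map_pow, map_zero]
  exact hk

/-- the fraction `c / f ^ n` -/
def frac (f : R) (n : ℕ) (c : R) : Γ((opU (bo f)).left, ⊤) :=
  ρ (opU (bo f)) c * ((isUnit_ρ f).unit⁻¹ : Γ((opU (bo f)).left, ⊤)ˣ) ^ n

theorem frac_spec (f : R) (n : ℕ) (c : R) : frac f n c * ρ _ f ^ n = ρ _ c := by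
  rw [frac, mul_assoc, ← mul_pow, IsUnit.val_inv_mul, one_pow, mul_one]

theorem eq_frac {f : R} {n : ℕ} {c : R} {z : Γ((opU (bo f)).left, ⊤)} (h : z * ρ _ f ^ n = ρ _ c) :
    z = frac f n c :=
  ((isUnit_ρ f).pow n).mul_left_injective (h.trans (frac_spec f n c).symm)

theorem frac_add (f : R) (n : ℕ) (c d : R) : frac f n (c + d) = frac f n c + frac f n d :=
  (eq_frac (by rw [add_mul, frac_spec, frac_spec, map_add])).symm

theorem frac_scale (f : R) (n k : ℕ) (c : R) : frac f (n + k) (c * f ^ k) = frac f n c :=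
  (eq_frac (by rw [pow_add, ← mul_assoc, frac_spec, map_mul, map_pow])).symm

theorem exists_frac (f : R) (z : Γ((opU (bo f)).left, ⊤)) : ∃ n c, z = frac f n c := by
  obtain ⟨⟨c, ⟨_, k, rfl⟩⟩, hk⟩ := IsLocalization.surj
    (Submonoid.powers ((Scheme.ΓSpecIso (CommRingCat.of R)).inv.hom f)) ((bo f).topIso.hom z)
  refine ⟨k, (Scheme.ΓSpecIso (CommRingCat.of R)).hom.hom c, eq_frac ?_⟩
  have h := congrArg (bo f).topIso.inv hk
  rw [map_mul, map_pow, map_pow, Iso.hom_inv_id_apply] at h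
  rw [ρ_opU, ρ_opU, Iso.hom_inv_id_apply]
  exact h

theorem frac_eq_zero {f : R} {n : ℕ} {c : R} (h : frac f n c = 0) : ∃ k, f ^ k * c = 0 := by
  refine exists_pow_mul_eq_zero f c ?_
  rw [← frac_spec f n c, h, zero_mul]

theorem frac_res {f f' : R} (h : bo f' ≤ bo f) (n : ℕ) (c a : R) (e : f * a = f') :
    (inclU h).left.appTop (frac f n c) = frac f' n (c * a ^ n) := by
  subst e
  refine eq_frac ?_
  rw [map_mul (ρ (opU (bo (f * a)))) c, map_pow (ρ (opU (bo (f * a)))), map_mul, mul_pow, ← mul_assoc]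
  congr 1
  rw [← ρ_nat (inclU h) f, ← ρ_nat (inclU h) c, ← map_pow, ← map_mul, frac_spec]

/-- a function as a section of `G_a` -/
abbrev up' {T : (Spec (CommRingCat.of R)).Etale} (z : Γ(T.left, ⊤)) : (EtCoh.Ga Y).obj.obj (op T) :=
  ULift.up z

/-- the class of a section -/
def cls {T : (Spec (CommRingCat.of R)).Etale} (z : Γ(T.left, ⊤)) : HE (EtCoh.Ga Y) 0 T :=
  Ext.mk₀ ((zuEquiv T _).symm (up' z))

theorem cls_surjective {T : (Spec (CommRingCat.of R)).Etale} (x : HE (EtCoh.Ga Y) 0 T) :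
    ∃ z, cls z = x := by
  obtain ⟨φ, rfl⟩ := (Ext.mk₀_bijective _ _).2 x
  exact ⟨(zuEquiv T _ φ).down, congrArg Ext.mk₀ ((zuEquiv T _).symm_apply_apply φ)⟩

theorem cls_injective {T : (Spec (CommRingCat.of R)).Etale} {z z' : Γ(T.left, ⊤)}
    (h : cls z = cls z') : z = z' :=
  congrArg ULift.down ((zuEquiv T _).symm.injective ((Ext.mk₀_bijective _ _).1 h))

theorem cls_add {T : (Spec (CommRingCat.of R)).Etale} (z z' : Γ(T.left, ⊤)) :
    cls (z + z') = cls z + cls z' := by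
  rw [cls, cls, cls, ← Ext.mk₀_add]
  congr 1
  refine (zuEquiv T _).injective ?_
  rw [Equiv.apply_symm_apply, zuEquiv_eq]
  show _ = ((zuEquiv T _).symm (up' z)).hom.app (op T) _ + ((zuEquiv T _).symm (up' z')).hom.app (op T) _
  rw [← zuEquiv_eq, ← zuEquiv_eq, Equiv.apply_symm_apply, Equiv.apply_symm_apply]
  rfl

theorem cls_zero {T : (Spec (CommRingCat.of R)).Etale} : cls (0 : Γ(T.left, ⊤)) = 0 :=
  add_eq_right.1 ((cls_add (0 : Γ(T.left, ⊤)) 0).symm.trans (by rw [add_zero]))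

theorem HTres_cls {T T' : (Spec (CommRingCat.of R)).Etale} (a : T' ⟶ T) (z : Γ(T.left, ⊤)) :
    res (EtCoh.Ga Y) 0 a (cls z) = cls (a.left.appTop z) := by
  rw [cls, OpensMV.res_mk₀, cls]
  congr 1
  refine (zuEquiv T' _).injective ?_
  rw [zuEquiv_ZUmap, Equiv.apply_symm_apply, Equiv.apply_symm_apply]
  rfl

/-- gluing of functions -/
theorem existsUnique_glue (U V : (Spec (CommRingCat.of R)).Opens) (s : Γ((opU U).left, ⊤))
    (t : Γ((opU V).left, ⊤))
    (h : (inclU (inf_le_left : U ⊓ V ≤ U)).left.appTop s = (inclU (inf_le_right : U ⊓ V ≤ V)).left.appTop t) :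
    ∃ r : Γ((opU (U ⊔ V)).left, ⊤), (inclU (le_sup_left : U ≤ U ⊔ V)).left.appTop r = s ∧
      (inclU (le_sup_right : V ≤ U ⊔ V)).left.appTop r = t := by
  obtain ⟨r, ⟨h₁, h₂⟩, -⟩ := OpensMV.existsUnique_glue (EtCoh.Ga Y) U V (ULift.up s) (ULift.up t)
    (congrArg ULift.up h)
  exact ⟨r.down, congrArg ULift.down h₁, congrArg ULift.down h₂⟩

theorem eq_of_res {U V : (Spec (CommRingCat.of R)).Opens} {r r' : Γ((opU (U ⊔ V)).left, ⊤)}
    (h₁ : (inclU (le_sup_left : U ≤ U ⊔ V)).left.appTop r = (inclU (le_sup_left : U ≤ U ⊔ V)).left.appTop r')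
    (h₂ : (inclU (le_sup_right : V ≤ U ⊔ V)).left.appTop r = (inclU (le_sup_right : V ≤ U ⊔ V)).left.appTop r') :
    r = r' :=
  congrArg ULift.down (OpensMV.eq_of_res (EtCoh.Ga Y) (r := ULift.up r) (r' := ULift.up r')
    (congrArg ULift.up h₁) (congrArg ULift.up h₂))

theorem appTop_comp_apply {T T' T'' : (Spec (CommRingCat.of R)).Etale} (a : T'' ⟶ T') (b : T' ⟶ T)
    (z : Γ(T.left, ⊤)) : a.left.appTop (b.left.appTop z) = (a ≫ b).left.appTop z :=
  (congrArg (fun φ : Γ(T.left, ⊤) ⟶ Γ(T''.left, ⊤) => φ z) (Scheme.Hom.comp_appTop a.left b.left)).symm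

end Groth.Agent.EtDual68.GaSec
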