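import Groth.Agent.EtDerLib.ZU
import Groth.Agent.EtLC12.AffineCartan
import Groth.Agent.EtMVLib.BiprodSES
import Groth.Agent.EtFound.Basic

/-!
# Mayer–Vietoris inside the etale site of `X`
-/

universe v u

open CategoryTheory CategoryTheory.Limits AlgebraicGeometry Opposite CategoryTheory.Abelian

noncomputable section

namespace Groth.Agent.EtDual68.OpensMV

set_option backward.isDefEq.respectTransparency.types false

open EtDerLib (ZU ZUmap zuEquiv zuEquiv_ZUmap zuEquiv_comp)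

variable {X : Scheme.{u}}

/-- atomic `HasSheafify` instance -/
theorem hasSheafifyAb (X : Scheme.{v}) : HasSheafify X.smallEtaleTopology AddCommGrpCat.{v + 1} := inferInstance

attribute [scoped instance 20000] hasSheafifyAb

/-- atomic `HasExt` instance: avoids expensive kernel comparisons of the unfolded class -/
theorem hasExtAb (X : Scheme.{v}) : HasExt.{v + 1} (EtCoh.Ab X) := IsGrothendieckAbelian.hasExt _

attribute [scoped instance 20000] hasExtAb

/-- `H^n(T, F)` (a notation, so that instances stay syntactically equal) -/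
scoped notation:max "HE" F:max n:max T:max =>
  CategoryTheory.Abelian.Ext (Groth.Agent.EtDerLib.ZU T) F n

theorem res_aux (F : EtCoh.Ab X) (n : ℕ) {A B : X.Etale} (f : B ⟶ A) (x y : HE F n A) :
    (Ext.mk₀ (ZUmap f)).comp (x + y) (zero_add n) =
      (Ext.mk₀ (ZUmap f)).comp x (zero_add n) + (Ext.mk₀ (ZUmap f)).comp y (zero_add n) :=
  Ext.comp_add _ _ _ _

/-- restriction -/
def res (F : EtCoh.Ab X) (n : ℕ) {A B : X.Etale} (f : B ⟶ A) : HE F n A →+ HE F n B :=
  AddMonoidHom.mk' (fun x => (Ext.mk₀ (ZUmap f)).comp x (zero_add n)) (res_aux F n f)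

theorem res_comp_apply {F G : EtCoh.Ab X} {n k m : ℕ} {A B : X.Etale} (f : B ⟶ A) (x : HE F n A)
    (e : Ext F G k) (h : n + k = m) : res G m f (x.comp e h) = (res F n f x).comp e h :=
  (Ext.comp_assoc _ _ _ (zero_add n) h (by omega)).symm

theorem res_mk₀ {F : EtCoh.Ab X} {A B : X.Etale} (f : B ⟶ A) (φ : ZU A ⟶ F) :
    res F 0 f (Ext.mk₀ φ) = Ext.mk₀ (ZUmap f ≫ φ) :=
  Ext.mk₀_comp_mk₀ _ _

/-- an open as an object of the etale site -/
abbrev opU (V : X.Opens) : X.Etale := Scheme.Etale.mk V.ι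

/-- inclusion of opens -/
def inclU {V W : X.Opens} (h : V ≤ W) : opU V ⟶ opU W :=
  MorphismProperty.Over.homMk (X.homOfLE h) (X.homOfLE_ι h)

theorem inclU_unique {T : X.Etale} {W : X.Opens} (a b : T ⟶ opU W) : a = b :=
  MorphismProperty.Over.Hom.ext ((cancel_mono W.ι).1
    ((MorphismProperty.Over.w a).trans (MorphismProperty.Over.w b).symm))

theorem exists_hom {T : X.Etale} {W : X.Opens} (h : ∀ t : T.left, T.hom.base t ∈ W) : Nonempty (T ⟶ opU W) := by
  let th : T.left ⟶ X := T.hom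
  have hr : Set.range th.base ⊆ Set.range W.ι.base := by
    rintro _ ⟨t, rfl⟩
    rw [Scheme.Opens.range_ι]
    exact h t
  let l := IsOpenImmersion.lift W.ι th hr
  have e : l ≫ W.ι = th := IsOpenImmersion.lift_fac W.ι th hr
  exact ⟨MorphismProperty.Over.homMk l e trivial⟩

theorem base_mem {T : X.Etale} {W : X.Opens} (a : T ⟶ opU W) (t : T.left) : T.hom.base t ∈ W := by
  have e : a.left ≫ W.ι = T.hom := MorphismProperty.Over.w a
  rw [← e, Scheme.Hom.comp_apply]
  exact (a.left.base t).2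

variable (F : EtCoh.Ab X)

theorem map_map {A B C : X.Etale} (a : A ⟶ B) (b : B ⟶ C) (s : EtCoh.sect F C) :
    F.obj.map a.op (F.obj.map b.op s) = F.obj.map (a ≫ b).op s :=
  (ConcreteCategory.congr_hom (F.obj.map_comp b.op a.op) s).symm

/-- gluing on two opens -/
theorem existsUnique_glue (U V : X.Opens) (s : EtCoh.sect F (opU U)) (t : EtCoh.sect F (opU V))
    (h : F.obj.map (inclU (inf_le_left : U ⊓ V ≤ U)).op s = F.obj.map (inclU (inf_le_right : U ⊓ V ≤ V)).op t) :
    ∃! r : EtCoh.sect F (opU (U ⊔ V)), F.obj.map (inclU (le_sup_left : U ≤ U ⊔ V)).op r = s ∧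
      F.obj.map (inclU (le_sup_right : V ≤ U ⊔ V)).op r = t := by
  let obj : Bool → X.Etale := fun b => match b with | true => opU U | false => opU V
  let arr : ∀ b, obj b ⟶ opU (U ⊔ V) := fun b => match b with
    | true => inclU le_sup_left
    | false => inclU le_sup_right
  have hsh := ((isSheaf_iff_isSheaf_of_type _ _).1
    ((sheafCompose X.smallEtaleTopology (forget AddCommGrpCat.{u + 1})).obj F).property)
    (Sieve.generate (Presieve.ofArrows obj arr)) (X := opU (U ⊔ V)) (by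
      refine (EtFound.mem_topology_iff _).2 fun x => ?_
      rcases TopologicalSpace.Opens.mem_sup.1 x.2 with hx | hx
      · refine ⟨_, arr true, ⟨x.1, hx⟩, Sieve.le_generate _ _ _ (Presieve.ofArrows.mk true), ?_⟩
        exact Subtype.ext (X.homOfLE_apply (le_sup_left : U ≤ U ⊔ V) ⟨x.1, hx⟩)
      · refine ⟨_, arr false, ⟨x.1, hx⟩, Sieve.le_generate _ _ _ (Presieve.ofArrows.mk false), ?_⟩
        exact Subtype.ext (X.homOfLE_apply (le_sup_right : V ≤ U ⊔ V) ⟨x.1, hx⟩))
  rw [← Presieve.isSheafFor_iff_generate, Presieve.isSheafFor_arrows_iff] at hsh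
  have key : ∀ {T : X.Etale} (a : T ⟶ opU U) (b : T ⟶ opU V), F.obj.map a.op s = F.obj.map b.op t :=
    fun {T} a b => by
      obtain ⟨c⟩ := exists_hom (T := T) (W := U ⊓ V) fun z => ⟨base_mem a z, base_mem b z⟩
      rw [inclU_unique a (c ≫ inclU inf_le_left), inclU_unique b (c ≫ inclU inf_le_right),
        ← map_map, ← map_map, h]
  obtain ⟨r, hr, hu⟩ := hsh (fun b => match b with | true => s | false => t) (fun i j Z gi gj _ => by
    cases i <;> cases j
    · rw [inclU_unique gi gj]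
    · exact (key gj gi).symm
    · exact key gi gj
    · rw [inclU_unique gi gj])
  refine ⟨r, ⟨hr true, hr false⟩, fun r' hr' => hu r' fun b => ?_⟩
  cases b
  · exact hr'.2
  · exact hr'.1

theorem eq_of_res {U V : X.Opens} {r r' : EtCoh.sect F (opU (U ⊔ V))}
    (h₁ : F.obj.map (inclU (le_sup_left : U ≤ U ⊔ V)).op r = F.obj.map (inclU (le_sup_left : U ≤ U ⊔ V)).op r')
    (h₂ : F.obj.map (inclU (le_sup_right : V ≤ U ⊔ V)).op r = F.obj.map (inclU (le_sup_right : V ≤ U ⊔ V)).op r') :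
    r = r' := by
  refine (existsUnique_glue F U V _ _ ?_).unique ⟨rfl, rfl⟩ ⟨h₁.symm, h₂.symm⟩
  rw [map_map, map_map, inclU_unique (inclU _ ≫ inclU _) (inclU _ ≫ inclU _)]

omit F in
theorem freeMap_injective {α β : Type v} (g : α → β) (hg : Function.Injective g) :
    Function.Injective (FreeAbelianGroup.map g) := by
  rcases isEmpty_or_nonempty α with hα | hα
  · exact fun a b _ => Subsingleton.elim a b
  · obtain ⟨r, hr⟩ := hg.hasLeftInverse
    refine Function.LeftInverse.injective (g := FreeAbelianGroup.map r) fun a => ?_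
    rw [← FreeAbelianGroup.map_comp_apply, show r ∘ g = id from funext hr, FreeAbelianGroup.map_id_apply]

theorem mono_ZUmap {A B : X.Etale} (f : A ⟶ B) [Mono f] : Mono (ZUmap f) := by
  have : Mono (Functor.whiskerRight (uliftYoneda.{u + 1}.map f) AddCommGrpCat.free.{u + 1}) := by
    have : ∀ Z, Mono ((Functor.whiskerRight (uliftYoneda.{u + 1}.map f) AddCommGrpCat.free.{u + 1}).app Z) := fun Z => by
      rw [AddCommGrpCat.mono_iff_injective]
      refine freeMap_injective _ ?_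
      exact fun a b e => ULift.ext _ _ ((cancel_mono f).1 (congrArg ULift.down e))
    exact NatTrans.mono_of_mono_app _
  exact inferInstanceAs (Mono ((presheafToSheaf X.smallEtaleTopology AddCommGrpCat.{u + 1}).map _))

instance mono_inclU {V W : X.Opens} (h : V ≤ W) : Mono (inclU h) :=
  ⟨fun a b _ => inclU_unique a b⟩

theorem ZUmap_comp {A B C : X.Etale} (a : A ⟶ B) (b : B ⟶ C) : ZUmap (a ≫ b) = ZUmap a ≫ ZUmap b := by
  refine (congrArg (fun k => (presheafToSheaf X.smallEtaleTopology AddCommGrpCat.{u + 1}).map k) ?_).trans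
    (Functor.map_comp _ _ _)
  exact (congrArg (Functor.whiskerRight · AddCommGrpCat.free.{u + 1})
    (uliftYoneda.{u + 1}.map_comp a b)).trans (Functor.whiskerRight_comp _ _ _)

variable (U V : X.Opens)

theorem comp_zero_aux :
    biprod.lift (ZUmap (inclU (inf_le_left : U ⊓ V ≤ U))) (-ZUmap (inclU (inf_le_right : U ⊓ V ≤ V))) ≫
      biprod.desc (ZUmap (inclU (le_sup_left : U ≤ U ⊔ V))) (ZUmap (inclU (le_sup_right : V ≤ U ⊔ V))) = 0 := by
  rw [biprod.lift_desc, Preadditive.neg_comp, ← ZUmap_comp, ← ZUmap_comp,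
    add_neg_eq_zero]
  exact congrArg ZUmap (inclU_unique _ _)

/-- the Mayer–Vietoris complex -/
abbrev mvSC : ShortComplex (EtCoh.Ab X) := ShortComplex.mk _ _ (comp_zero_aux U V)

theorem mvSC_shortExact : (mvSC U V).ShortExact := by
  have hf : Mono (mvSC U V).f := by
    have := mono_ZUmap (inclU (inf_le_left : U ⊓ V ≤ U))
    have e : (mvSC U V).f ≫ biprod.fst = ZUmap (inclU (inf_le_left : U ⊓ V ≤ U)) := biprod.lift_fst _ _
    have : Mono ((mvSC U V).f ≫ biprod.fst) := e ▸ this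
    exact mono_of_mono (mvSC U V).f biprod.fst
  have hext : ∀ {G : EtCoh.Ab X} (a b : ZU (opU (U ⊔ V)) ⟶ G),
      (mvSC U V).g ≫ a = (mvSC U V).g ≫ b → a = b := fun {G} a b e => by
    refine (zuEquiv _ G).injective (eq_of_res G ?_ ?_)
    · rw [← zuEquiv_ZUmap, ← zuEquiv_ZUmap]
      refine congrArg _ ?_
      simpa using congrArg (biprod.inl ≫ ·) e
    · rw [← zuEquiv_ZUmap, ← zuEquiv_ZUmap]
      refine congrArg _ ?_
      simpa using congrArg (biprod.inr ≫ ·) e
  have hdesc : ∀ {G : EtCoh.Ab X} (φ : ZU (opU U) ⊞ ZU (opU V) ⟶ G), (mvSC U V).f ≫ φ = 0 →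
      ∃ ψ : ZU (opU (U ⊔ V)) ⟶ G, (mvSC U V).g ≫ ψ = φ := fun {G} φ hφ => by
    have hc : G.obj.map (inclU (inf_le_left : U ⊓ V ≤ U)).op (zuEquiv _ G (biprod.inl ≫ φ)) =
        G.obj.map (inclU (inf_le_right : U ⊓ V ≤ V)).op (zuEquiv _ G (biprod.inr ≫ φ)) := by
      rw [← zuEquiv_ZUmap, ← zuEquiv_ZUmap]
      refine congrArg _ (sub_eq_zero.1 ?_)
      refine Eq.trans ?_ hφ
      simp [biprod.lift_eq, sub_eq_add_neg]
    obtain ⟨r, ⟨hr₁, hr₂⟩, -⟩ := existsUnique_glue G U V _ _ hc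
    refine ⟨(zuEquiv _ G).symm r, biprod.hom_ext' _ _ ?_ ?_⟩
    · rw [biprod.inl_desc_assoc]
      refine (zuEquiv _ G).injective ?_
      rw [zuEquiv_ZUmap, Equiv.apply_symm_apply, hr₁]
    · rw [biprod.inr_desc_assoc]
      refine (zuEquiv _ G).injective ?_
      rw [zuEquiv_ZUmap, Equiv.apply_symm_apply, hr₂]
  have hepi : Epi (mvSC U V).g := ⟨fun a b e => hext a b e⟩
  exact { exact := ShortComplex.exact_of_g_is_cokernel _
            (CokernelCofork.IsColimit.ofπ' _ _ fun {G} φ hφ => ⟨(hdesc φ hφ).choose, (hdesc φ hφ).choose_spec⟩) }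

theorem δ_aux (n : ℕ) (x y : HE F n (opU (U ⊓ V))) :
    (mvSC_shortExact U V).extClass.comp (x + y) (Nat.add_comm 1 n) =
      (mvSC_shortExact U V).extClass.comp x (Nat.add_comm 1 n) +
        (mvSC_shortExact U V).extClass.comp y (Nat.add_comm 1 n) :=
  Ext.comp_add _ _ _ _

/-- the connecting map -/
def δ (n : ℕ) : HE F n (opU (U ⊓ V)) →+ HE F (n + 1) (opU (U ⊔ V)) :=
  AddMonoidHom.mk' (fun x => (mvSC_shortExact U V).extClass.comp x (Nat.add_comm 1 n)) (δ_aux F U V n)

variable {U V F}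

theorem δ_comp {G : EtCoh.Ab X} (φ : F ⟶ G) (n : ℕ) (x : HE F n (opU (U ⊓ V))) :
    δ G U V n (x.comp (Ext.mk₀ φ) (add_zero n)) = (δ F U V n x).comp (Ext.mk₀ φ) (add_zero _) :=
  (Ext.comp_assoc _ _ _ (Nat.add_comm 1 n) (add_zero n) (by omega)).symm

theorem δ_res_left (n : ℕ) (a : HE F n (opU U)) :
    δ F U V n (res F n (inclU (inf_le_left : U ⊓ V ≤ U)) a) = 0 := by
  show (mvSC_shortExact U V).extClass.comp ((Ext.mk₀ (ZUmap (inclU inf_le_left))).comp a (zero_add n)) (Nat.add_comm 1 n) = 0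
  have e : ZUmap (inclU (inf_le_left : U ⊓ V ≤ U)) = (mvSC U V).f ≫ biprod.fst := (biprod.lift_fst _ _).symm
  rw [e, ← Ext.mk₀_comp_mk₀_assoc]
  exact ShortComplex.ShortExact.extClass_comp_assoc _ _

theorem δ_res_right (n : ℕ) (b : HE F n (opU V)) :
    δ F U V n (res F n (inclU (inf_le_right : U ⊓ V ≤ V)) b) = 0 := by
  show (mvSC_shortExact U V).extClass.comp ((Ext.mk₀ (ZUmap (inclU inf_le_right))).comp b (zero_add n)) (Nat.add_comm 1 n) = 0
  have e : ZUmap (inclU (inf_le_right : U ⊓ V ≤ V)) = (mvSC U V).f ≫ (-biprod.snd) := by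
    simp
  rw [e, ← Ext.mk₀_comp_mk₀_assoc]
  exact ShortComplex.ShortExact.extClass_comp_assoc _ _

/-- classes killed by `δ` -/
theorem exists_of_δ_eq_zero {n : ℕ} (x : HE F n (opU (U ⊓ V))) (hx : δ F U V n x = 0) :
    ∃ (a : HE F n (opU U)) (b : HE F n (opU V)),
      x = res F n (inclU inf_le_left) a - res F n (inclU inf_le_right) b := by
  obtain ⟨y, hy⟩ := Ext.contravariant_sequence_exact₁ (mvSC_shortExact U V) F x (Nat.add_comm 1 n) hx
  refine ⟨(Ext.mk₀ biprod.inl).comp y (zero_add n), (Ext.mk₀ biprod.inr).comp y (zero_add n), ?_⟩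
  show x = (Ext.mk₀ _).comp _ (zero_add n) - (Ext.mk₀ _).comp _ (zero_add n)
  rw [Ext.mk₀_comp_mk₀_assoc, Ext.mk₀_comp_mk₀_assoc, ← hy, sub_eq_add_neg, ← Ext.neg_comp, ← Ext.mk₀_neg,
    ← Ext.add_comp, ← Ext.mk₀_add]
  congr 2
  simp [biprod.lift_eq]

/-- classes killed by both restrictions -/
theorem exists_δ_eq {n : ℕ} (z : HE F (n + 1) (opU (U ⊔ V)))
    (h₁ : res F (n + 1) (inclU le_sup_left) z = 0) (h₂ : res F (n + 1) (inclU le_sup_right) z = 0) :
    ∃ x, δ F U V n x = z := by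
  refine Ext.contravariant_sequence_exact₃ (mvSC_shortExact U V) F z ?_ (Nat.add_comm 1 n)
  apply Ext.biprod_ext
  · rw [Ext.mk₀_comp_mk₀_assoc, biprod.inl_desc, Ext.comp_zero]
    exact h₁
  · rw [Ext.mk₀_comp_mk₀_assoc, biprod.inr_desc, Ext.comp_zero]
    exact h₂

/-- naturality in the opens -/
theorem δ_natural {U' V' : X.Opens} (hU : U' ≤ U) (hV : V' ≤ V) (n : ℕ) (x : HE F n (opU (U ⊓ V))) :
    δ F U' V' n (res F n (inclU (inf_le_inf hU hV)) x) =
      res F (n + 1) (inclU (sup_le_sup hU hV)) (δ F U V n x) := by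
  let φ : mvSC U' V' ⟶ mvSC U V :=
    { τ₁ := ZUmap (inclU (inf_le_inf hU hV))
      τ₂ := biprod.map (ZUmap (inclU hU)) (ZUmap (inclU hV))
      τ₃ := ZUmap (inclU (sup_le_sup hU hV))
      comm₁₂ := by
        apply biprod.hom_ext <;> simp [← ZUmap_comp]
        · exact congrArg ZUmap (inclU_unique _ _)
        · exact congrArg ZUmap (inclU_unique _ _)
      comm₂₃ := by
        apply biprod.hom_ext' <;> simp [← ZUmap_comp]
        · exact congrArg ZUmap (inclU_unique _ _)
        · exact congrArg ZUmap (inclU_unique _ _) }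
  have h := ShortComplex.ShortExact.extClass_naturality (mvSC_shortExact U' V') (mvSC_shortExact U V) φ
  show (mvSC_shortExact U' V').extClass.comp ((Ext.mk₀ φ.τ₁).comp x (zero_add n)) (Nat.add_comm 1 n) =
    (Ext.mk₀ φ.τ₃).comp ((mvSC_shortExact U V).extClass.comp x (Nat.add_comm 1 n)) (zero_add (n + 1))
  rw [← Ext.comp_assoc _ _ _ (add_zero 1) (zero_add n) (by omega), h]
  exact Ext.comp_assoc _ _ _ (zero_add 1) (Nat.add_comm 1 n) (by omega)

variable (F)

omit U V in
/-- higher cohomology of acyclic sheaves on affines -/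
theorem eq_zero_of_isAffAcyclic : ∀ (n : ℕ) (G : EtCoh.Ab X) (_ : EtLC12.AffineCartan.IsAffAcyclic G)
    (W : X.Etale) [IsAffine W.left] (x : HE G (n + 1) W), x = 0 := by
  intro n
  induction n with
  | zero =>
    intro G hG W _ x
    let hS := EtMVLib.injSES_shortExact G
    haveI : Injective (EtMVLib.injSES G).X₂ := inferInstanceAs (Injective (Injective.under G))
    obtain ⟨y, rfl⟩ := EtDerLib.secδ_surjective hS W x
    exact (EtDerLib.secδ_eq_zero_iff hS W y).2 (EtLC12.AffineCartan.sections_surjective _ hS hG y)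
  | succ n ih =>
    intro G hG W _ x
    let hS := EtMVLib.injSES_shortExact G
    haveI : Injective (EtMVLib.injSES G).X₂ := inferInstanceAs (Injective (Injective.under G))
    have h3 := EtLC12.AffineCartan.isAffAcyclic_X₃ _ hS hG
      (EtLC12.AffineCartan.isAffAcyclic_of_injective _)
    obtain ⟨y, rfl⟩ := (EtDerLib.δ_bijective hS n W).2 x
    show y.comp hS.extClass _ = 0
    rw [ih _ h3 W y, Ext.zero_comp]

end Groth.Agent.EtDual68.OpensMV
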