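import Groth.Prelude.Def_SixF3
import Groth.Agent.EtDual68.CurveKummer
import Groth.Agent.EtDual68.SuppHom
import Groth.Agent.RegUFD.Basic
import Groth.Agent.InvUfdLib.Trivial
import Groth.Agent.PicClLib.Basic
import Groth.Agent.S0236
import Groth.Agent.S0108

/-!
# `H¹(Spec A[1/x], μ_n) ≅ ℤ/n` for a regular parameter `x` of a strictly henselian ring
-/

universe u

open CategoryTheory CategoryTheory.Limits AlgebraicGeometry Opposite CategoryTheory.Abelian IsLocalRing

noncomputable section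

namespace Groth.Agent.EtDual68.PuncturedMu

set_option backward.isDefEq.respectTransparency.types false

/-- invertible modules on the spectrum of a UFD are trivial -/
theorem invertible_trivial (R : Type u) [CommRing R] [IsDomain R] [UniqueFactorizationMonoid R]
    (L : (Spec (CommRingCat.of R)).Modules) (hL : PicF.IsInvertible L) :
    Nonempty (L ≅ Coh.structureModule (Spec (CommRingCat.of R))) := by
  let X := Spec (CommRingCat.of R)
  let i : (⊤ : X.Opens).toScheme ⟶ X := (⊤ : X.Opens).ι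
  let s : X ⟶ (⊤ : X.Opens).toScheme := X.topIso.inv
  obtain ⟨e⟩ := InvUfdLib.nonempty_iso (R := CommRingCat.of R) ⊤ _ (PicClLib.isInvertible_pullback i hL)
  obtain ⟨e'⟩ := PicClLib.nonempty_pullback_structureModule s
  have h : s ≫ i = 𝟙 X := X.toIso_inv_ι
  exact ⟨((Scheme.Modules.pullbackId X).app L).symm ≪≫ (Scheme.Modules.pullbackCongr h.symm).app L ≪≫
    ((Scheme.Modules.pullbackComp s i).app L).symm ≪≫ (Scheme.Modules.pullback s).mapIso e ≪≫ e'⟩

theorem subsingleton_H1_Gm (R : Type u) [CommRing R] [IsDomain R] [UniqueFactorizationMonoid R] :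
    Subsingleton (EtCoh.H (Spec (CommRingCat.of R)) (EtCoh.Gm (Spec (CommRingCat.of R))) 1) :=
  (S0236.result _).2 (invertible_trivial R)

section Kummer

variable (X : Scheme.{u})

/-- `H⁰(X, G_m)` is the group of global units -/
def unitsH0 : Additive (Γ(X, ⊤) : Type u)ˣ →+ EtCoh.H X (EtCoh.Gm X) 0 :=
  AddMonoidHom.mk' (fun a => Ext.mk₀ ((homIsoGsec X).inv.app (EtCoh.Gm X) (ULift.up a))) fun a b =>
    (congrArg Ext.mk₀ (((homIsoGsec X).inv.app (EtCoh.Gm X)).hom.map_add (ULift.up a) (ULift.up b))).trans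
      (Ext.mk₀_add _ _)

theorem unitsH0_bijective : Function.Bijective (unitsH0 X) :=
  (Ext.mk₀_bijective _ _).comp (((ConcreteCategory.isIso_iff_bijective _).1
    (inferInstance : IsIso ((homIsoGsec X).inv.app (EtCoh.Gm X)))).comp
      (Equiv.ulift.{u + 1}.symm.bijective))

variable {X} {n : ℕ}

/-- the Kummer map on units -/
def kum (h : Epi (EtCoh.powMap X n)) : Additive (Γ(X, ⊤) : Type u)ˣ →+ EtCoh.H X (EtCoh.mu X n) 1 :=
  (EtSix.kummerBoundary h 0).comp (unitsH0 X)

theorem kum_surjective (h : Epi (EtCoh.powMap X n)) (h1 : Subsingleton (EtCoh.H X (EtCoh.Gm X) 1)) :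
    Function.Surjective (kum h) := fun x => by
  obtain ⟨y, hy⟩ := Ext.covariant_sequence_exact₁ _ (EtSix.kummerShortExact h) x (h1.elim _ _) (n₀ := 0) rfl
  obtain ⟨a, rfl⟩ := (unitsH0_bijective X).2 y
  exact ⟨a, hy⟩

theorem kum_eq_zero_iff (h : Epi (EtCoh.powMap X n)) (a : Additive (Γ(X, ⊤) : Type u)ˣ) :
    kum h a = 0 ↔ ∃ b, n • b = a := by
  constructor
  · intro ha
    obtain ⟨y, hy⟩ := Ext.covariant_sequence_exact₃ _ (EtSix.kummerShortExact h) (unitsH0 X a) rfl ha
    obtain ⟨b, rfl⟩ := (unitsH0_bijective X).2 y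
    refine ⟨b, (unitsH0_bijective X).1 ?_⟩
    rw [map_nsmul, ← CurveKummer.comp_mk₀_nsmul]
    exact hy
  · rintro ⟨b, rfl⟩
    show EtSix.kummerBoundary h 0 (unitsH0 X (n • b)) = 0
    rw [map_nsmul, ← CurveKummer.comp_mk₀_nsmul]
    exact CurveKummer.comp_g_extClass (EtSix.kummerShortExact h) _

end Kummer

section Ring

variable (A : Type u) [CommRing A] [IsRegularLocalRing A]

theorem exists_nth_root [HenselianLocalRing A] [IsSepClosed (ResidueField A)] (n : ℕ) (hn : IsUnit (n : A))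
    (u : Aˣ) : ∃ r : Aˣ, r ^ n = u := by
  have hn0 : 0 < n := Nat.pos_of_ne_zero fun h => not_isUnit_zero (M₀ := A) (by simpa [h] using hn)
  have : NeZero (n : ResidueField A) := ⟨by
    simpa [map_natCast] using (hn.map (residue A)).ne_zero⟩
  obtain ⟨t, ht⟩ := IsSepClosed.exists_pow_nat_eq (residue A (u : A)) n
  obtain ⟨a₀, rfl⟩ := residue_surjective t
  have ha₀ : IsUnit a₀ := by
    rw [← residue_ne_zero_iff_isUnit]
    intro h0
    rw [h0, zero_pow hn0.ne'] at ht
    exact (residue_ne_zero_iff_isUnit _).2 u.isUnit ht.symm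
  obtain ⟨s, hs, -⟩ := HenselianLocalRing.is_henselian (Polynomial.X ^ n - Polynomial.C (u : A))
    (Polynomial.monic_X_pow_sub_C _ hn0.ne') a₀
    (by rw [← residue_eq_zero_iff]; simp [ht])
    (by simp [Polynomial.derivative_X_pow]; exact ⟨hn, ha₀.pow _⟩)
  have hs' : s ^ n = u := sub_eq_zero.1 (by simpa using hs)
  have hsu : IsUnit s := isUnit_pow_iff hn0.ne' |>.1 (hs' ▸ u.isUnit)
  exact ⟨hsu.unit, Units.ext hs'⟩

theorem prime_of_notMem_sq (x : A) (hx : x ∈ maximalIdeal A) (hx2 : x ∉ maximalIdeal A ^ 2) : Prime x := by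
  have hx0 : x ≠ 0 := fun h => hx2 (h ▸ Submodule.zero_mem _)
  have := (RegLoc6.isRegularLocalRing_quot_and hx hx2).1
  have := RegLoc6.isDomain_of_isRegularLocalRing (A ⧸ Ideal.span {x})
  exact (Ideal.span_singleton_prime hx0).1 ((Ideal.Quotient.isDomain_iff_prime _).1 this)

theorem nonempty_H1_mu [HenselianLocalRing A] [IsSepClosed (ResidueField A)]
    (x : A) (hx : x ∈ maximalIdeal A) (hx2 : x ∉ maximalIdeal A ^ 2) (n : ℕ) (hn : IsUnit (n : A)) :
    Nonempty (EtCoh.H (Spec (CommRingCat.of (Localization.Away x)))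
      (EtCoh.mu (Spec (CommRingCat.of (Localization.Away x))) n) 1 ≃+ ZMod n) := by
  obtain ⟨_, _⟩ := RegUFD.ufd A
  have hp := prime_of_notMem_sq A x hx hx2
  let B := Localization.Away x
  have hle : Submonoid.powers x ≤ nonZeroDivisors A := powers_le_nonZeroDivisors_of_noZeroDivisors hp.ne_zero
  have : IsDomain B := IsLocalization.isDomain_of_le_nonZeroDivisors _ hle
  have : UniqueFactorizationMonoid B :=
    UniqueFactorizationMonoid.of_isLocalization (Submonoid.powers x) (Localization.Away x)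
  have hinj : Function.Injective (algebraMap A B) := IsLocalization.injective B hle
  let X := Spec (CommRingCat.of B)
  let σ : Additive Bˣ ≃+ Additive (Γ(X, ⊤) : Type u)ˣ := MulEquiv.toAdditive
    (Units.mapEquiv (Scheme.ΓSpecIso (CommRingCat.of B)).symm.commRingCatIsoToRingEquiv.toMulEquiv)
  have h : Epi (EtCoh.powMap X n) := S0108.result X n (by
    rw [← map_natCast ((Scheme.ΓSpecIso (CommRingCat.of B)).inv.hom.comp (algebraMap A B))]
    exact hn.map _)
  let K : Additive Bˣ →+ EtCoh.H X (EtCoh.mu X n) 1 := (kum h).comp σ.toAddMonoidHom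
  have hK : ∀ a, K a = 0 ↔ ∃ b, n • b = a := fun a => (kum_eq_zero_iff h _).trans
    ⟨fun ⟨b, hb⟩ => ⟨σ.symm b, σ.injective (by rw [map_nsmul, σ.apply_symm_apply]; exact hb)⟩,
      fun ⟨b, hb⟩ => ⟨σ b, by rw [← map_nsmul, hb]; rfl⟩⟩
  let ξ : Bˣ := (IsLocalization.Away.algebraMap_isUnit (S := B) x).unit
  have hdec : ∀ w : Bˣ, ∃ (u : Aˣ) (k : ℤ), w = Units.map (algebraMap A B).toMonoidHom u * ξ ^ k := by
    intro w
    obtain ⟨i, a, hi⟩ := IsLocalization.Away.surj x (w : B)
    obtain ⟨j, b, hj⟩ := IsLocalization.Away.surj x ((w⁻¹ : Bˣ) : B)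
    have hab : a * b = x ^ (i + j) := hinj (by
      rw [map_mul, ← hi, ← hj, map_pow, pow_add, mul_mul_mul_comm, Units.mul_inv, one_mul])
    obtain ⟨l, -, hl⟩ := (dvd_prime_pow hp _).1 ⟨b, hab.symm⟩
    obtain ⟨u, hu⟩ := hl.symm
    refine ⟨u, (l : ℤ) - i, ?_⟩
    rw [zpow_sub, zpow_natCast, zpow_natCast, ← mul_assoc, eq_mul_inv_iff_mul_eq]
    refine Units.ext ?_
    rw [Units.val_mul, Units.val_pow_eq_pow_val, Units.val_mul, Units.val_pow_eq_pow_val]
    show (w : B) * algebraMap A B x ^ i = algebraMap A B u * algebraMap A B x ^ l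
    rw [← map_pow _ x l, ← map_mul, hi, ← hu, mul_comm]
  let θ : ℤ →+ EtCoh.H X (EtCoh.mu X n) 1 := zmultiplesHom _ (K (Additive.ofMul ξ))
  have hθ : Function.Surjective θ := fun c => by
    obtain ⟨a, ha⟩ := kum_surjective h (subsingleton_H1_Gm B) c
    obtain ⟨u, k, huk⟩ := hdec (Additive.toMul (σ.symm a))
    obtain ⟨r, hr⟩ := exists_nth_root A n hn u
    refine ⟨k, ?_⟩
    have e : σ.symm a = n • Additive.ofMul (Units.map (algebraMap A B).toMonoidHom r) + k • Additive.ofMul ξ :=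
      Additive.toMul.injective (huk.trans (by rw [← hr, map_pow]; rfl))
    have hK' : K (σ.symm a) = c := (congrArg (kum h) (σ.apply_symm_apply a)).trans ha
    rw [← hK', e, map_add, (hK _).2 ⟨_, rfl⟩, zero_add, map_zsmul]
    rfl
  have hker : θ.ker = AddSubgroup.zmultiples (n : ℤ) := by
    ext k
    rw [AddMonoidHom.mem_ker, Int.mem_zmultiples_iff]
    show k • K (Additive.ofMul ξ) = 0 ↔ _
    rw [← map_zsmul, hK]
    constructor
    · rintro ⟨b, hb⟩
      obtain ⟨u, l, hul⟩ := hdec (Additive.toMul b)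
      refine ⟨l, ?_⟩
      have e : Units.map (algebraMap A B).toMonoidHom (u ^ n) = ξ ^ (k - n * l) := by
        have hb' : (Additive.toMul b) ^ n = ξ ^ k := congrArg Additive.toMul hb
        rw [hul, mul_pow, ← zpow_natCast (ξ ^ l) n, ← zpow_mul] at hb'
        rw [map_pow, zpow_sub, ← hb', mul_comm (n : ℤ) l]
        group
      by_contra hne
      have key : ∀ (m : ℕ) (v : Aˣ), Units.map (algebraMap A B).toMonoidHom v = ξ ^ m → m = 0 := by
        intro m v hv
        by_contra hm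
        have hvx : (v : A) = x ^ m := hinj (by rw [map_pow]; exact congrArg Units.val hv)
        exact hp.not_isUnit ((isUnit_pow_iff hm).1 (hvx ▸ v.isUnit))
      rcases Int.eq_nat_or_neg (k - n * l) with ⟨m, hm | hm⟩
      · rw [hm, zpow_natCast] at e
        have := key m _ e
        omega
      · rw [hm, zpow_neg, zpow_natCast] at e
        have := key m (u ^ n)⁻¹ (by rw [map_inv, e, inv_inv])
        omega
    · rintro ⟨l, rfl⟩
      exact ⟨l • Additive.ofMul ξ, by rw [mul_comm, mul_smul, ← natCast_zsmul, smul_comm]⟩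
  exact ⟨((QuotientAddGroup.quotientKerEquivOfSurjective θ hθ).symm.trans
    (QuotientAddGroup.quotientAddEquivOfEq hker)).trans (Int.quotientZMultiplesNatEquivZMod n)⟩

end Ring

end Groth.Agent.EtDual68.PuncturedMu
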